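import Cfsg.Agent.Lib.Solvable.KegelWielandt.Counting

/-!
The theorem of Kegel and Wielandt.
-/

set_option autoImplicit false

open Pointwise

universe u

namespace Cfsg.Agent.Lib.Solvable.KegelWielandt

open Cfsg.Agent.Lib

variable {G : Type*} [Group G]

/-- Permutability with every conjugate of `Y` up to `p`-groups. -/
def PermP (p : ℕ) (X Y : Subgroup G) : Prop :=
  ∀ x : G, IsPGroup p (X ⊔ MulAut.conj x • Y : Subgroup G) ∧
    (X : Set G) * ((MulAut.conj x • Y : Subgroup G) : Set G) =
      ((MulAut.conj x • Y : Subgroup G) : Set G) * (X : Set G)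

theorem mul_comm_sup {X1 X2 Z : Subgroup G}
    (h1 : (X1 : Set G) * (Z : Set G) = (Z : Set G) * (X1 : Set G))
    (h2 : (X2 : Set G) * (Z : Set G) = (Z : Set G) * (X2 : Set G)) :
    ((X1 ⊔ X2 : Subgroup G) : Set G) * (Z : Set G) = (Z : Set G) * ((X1 ⊔ X2 : Subgroup G) : Set G) := by
  set S := X1 ⊔ X2 with hS
  have key : ∀ s ∈ S, ∀ z ∈ Z, s * z ∈ (Z : Set G) * (S : Set G) := by
    intro s hs
    rw [hS, Subgroup.sup_eq_closure] at hs
    have gen : ∀ {u : G}, u ∈ X1 ∨ u ∈ X2 → ∀ z ∈ Z, ∃ z' ∈ Z, ∃ u' ∈ S, u * z = z' * u' := by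
      rintro u (hu | hu) z hz
      · obtain ⟨z', hz', u', hu', he⟩ : u * z ∈ (Z : Set G) * (X1 : Set G) := h1 ▸ Set.mul_mem_mul hu hz
        exact ⟨z', hz', u', Subgroup.mem_sup_left hu', he.symm⟩
      · obtain ⟨z', hz', u', hu', he⟩ : u * z ∈ (Z : Set G) * (X2 : Set G) := h2 ▸ Set.mul_mem_mul hu hz
        exact ⟨z', hz', u', Subgroup.mem_sup_right hu', he.symm⟩
    induction hs using Subgroup.closure_induction_left with
    | one => exact fun z hz => ⟨z, hz, 1, one_mem _, by group⟩
    | mul_left u hu v hv ih =>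
      intro z hz
      obtain ⟨z', hz', v', hv', he⟩ := ih z hz
      obtain ⟨z'', hz'', u', hu', he'⟩ := gen hu z' hz'
      refine ⟨z'', hz'', u' * v', mul_mem hu' hv', ?_⟩
      simp only at he ⊢
      rw [← mul_assoc, ← he', mul_assoc, he, mul_assoc]
    | inv_mul_cancel u hu v hv ih =>
      intro z hz
      obtain ⟨z', hz', v', hv', he⟩ := ih z hz
      obtain ⟨z'', hz'', u', hu', he'⟩ := gen (hu.imp (fun h => inv_mem h) fun h => inv_mem h) z' hz'
      refine ⟨z'', hz'', u' * v', mul_mem hu' hv', ?_⟩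
      simp only at he ⊢
      rw [← mul_assoc, ← he', mul_assoc, he, mul_assoc]
  refine le_antisymm ?_ ?_
  · rintro _ ⟨s, hs, z, hz, rfl⟩
    exact key s hs z hz
  · rintro _ ⟨z, hz, s, hs, rfl⟩
    obtain ⟨z', hz', s', hs', he⟩ := key s⁻¹ (inv_mem hs) z⁻¹ (inv_mem hz)
    simp only at he ⊢
    refine ⟨s'⁻¹, inv_mem hs', z'⁻¹, inv_mem hz', ?_⟩
    show s'⁻¹ * z'⁻¹ = z * s
    rw [← mul_inv_rev, he, mul_inv_rev, inv_inv, inv_inv]

theorem permP_conj {p : ℕ} {X Y : Subgroup G} (h : PermP p X Y) (y : G) :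
    PermP p (MulAut.conj y • X) Y := by
  intro x
  obtain ⟨hp, he⟩ := h (y⁻¹ * x)
  have e : MulAut.conj x • Y = MulAut.conj y • MulAut.conj (y⁻¹ * x) • Y := by
    rw [← Coprime.conj_mul_smul, mul_inv_cancel_left]
  refine ⟨?_, ?_⟩
  · rw [e, ← Subgroup.smul_sup]
    exact Coprime.isPGroup_conj_smul hp
  · rw [e, Subgroup.coe_pointwise_smul, Subgroup.coe_pointwise_smul (a := MulAut.conj y),
      ← smul_mul', he, smul_mul']

/-- A form of Kegel's lemma for `p`-groups. -/
theorem exists_normalized [Finite G] {p : ℕ} [hp : Fact p.Prime] {X Y : Subgroup G} (h : PermP p X Y) :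
    ∃ X' : Subgroup G, X ≤ X' ∧ IsPGroup p X' ∧
      Subgroup.normalClosure (Y : Set G) ≤ Subgroup.normalizer (X' : Set G) := by
  haveI : Nonempty {X' : Subgroup G // X ≤ X' ∧ PermP p X' Y} := ⟨⟨X, le_rfl, h⟩⟩
  obtain ⟨⟨X', hXX', hP⟩, hmax⟩ := Finite.exists_max
    (fun X' : {X' : Subgroup G // X ≤ X' ∧ PermP p X' Y} => Nat.card X'.1)
  refine ⟨X', hXX', (hP 1).1.to_le le_sup_left, ?_⟩
  have hy : ∀ y : G, MulAut.conj y • Y ≤ Subgroup.normalizer (X' : Set G) := by
    intro y g hg
    refine Coprime.mem_normalizer_of_conj_smul_eq ?_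
    by_contra hne
    have hnew : PermP p (X' ⊔ MulAut.conj g • X') Y := by
      intro x
      have hc := mul_comm_sup (hP x).2 (permP_conj hP g x).2
      refine ⟨?_, hc⟩
      have h1 : MulAut.conj g • X' ≤ X' ⊔ MulAut.conj y • Y := by
        intro w hw
        rw [Coprime.mem_conj_smul] at hw
        have hgS : g ∈ X' ⊔ MulAut.conj y • Y := Subgroup.mem_sup_right hg
        have := mul_mem (mul_mem hgS (Subgroup.mem_sup_left (T := MulAut.conj y • Y) hw)) (inv_mem hgS)
        simpa [mul_assoc] using this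
      have hp1 : IsPGroup p (X' ⊔ MulAut.conj g • X' : Subgroup G) :=
        (hP y).1.to_le (sup_le le_sup_left h1)
      obtain ⟨i, hi⟩ := IsPGroup.iff_card.mp hp1
      obtain ⟨j, hj⟩ := IsPGroup.iff_card.mp ((hP x).1.to_le (le_sup_right : MulAut.conj x • Y ≤ _))
      have hset := Products.coe_sup_of_mul_comm hc
      have hcard := Products.card_mul_set_mul_card_inf (X' ⊔ MulAut.conj g • X') (MulAut.conj x • Y)
      rw [← hset, hi, hj, ← pow_add] at hcard
      obtain ⟨n, -, hn⟩ := (Nat.dvd_prime_pow hp.out).mp (Dvd.intro _ hcard)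
      exact IsPGroup.of_card hn
    have := hmax ⟨_, hXX'.trans le_sup_left, hnew⟩
    have heq := Coprime.eq_of_le_of_card_le (le_sup_left : X' ≤ X' ⊔ MulAut.conj g • X') this
    exact hne (Coprime.eq_of_le_of_card_le (le_sup_right.trans heq.ge) (Coprime.card_conj_smul g X').ge)
  refine le_trans (Subgroup.normalClosure_le_normal (N := (Subgroup.normalizer (X' : Set G)).normalCore)
    fun w hw g => ?_) (Subgroup.normalCore_le _)
  refine hy g ?_
  rw [Coprime.mem_conj_smul]
  simpa [mul_assoc] using hw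

theorem fac_map {A B : Subgroup G} (h : ∀ g : G, ∃ a ∈ A, ∃ b ∈ B, g = a * b) {H : Type*} [Group H]
    (f : G →* H) (hf : Function.Surjective f) :
    ∀ g : H, ∃ a ∈ A.map f, ∃ b ∈ B.map f, g = a * b := by
  intro g
  obtain ⟨g, rfl⟩ := hf g
  obtain ⟨a, ha, b, hb, rfl⟩ := h g
  exact ⟨f a, ⟨a, ha, rfl⟩, f b, ⟨b, hb, rfl⟩, map_mul f a b⟩

/-- In a solvable group factorized by nilpotent subgroups, not both the whole group, a proper
normal subgroup contains one of them. -/
theorem exists_normal_aux : ∀ (n : ℕ) (G : Type u) [Group G] [Finite G], Nat.card G = n →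
    Group.IsSolvable G → ∀ A B : Subgroup G, Group.IsNilpotent A → Group.IsNilpotent B →
    (∀ g : G, ∃ a ∈ A, ∃ b ∈ B, g = a * b) → A ≠ ⊤ ∨ B ≠ ⊤ →
    ∃ N : Subgroup G, N.Normal ∧ N ≠ ⊤ ∧ (A ≤ N ∨ B ≤ N) := by
  intro n
  induction n using Nat.strongRecOn with
  | ind n IH =>
  intro G _ _ hn hs A B hA hB hAB hprop
  -- a factor equal to the whole group
  have htop : ∀ X Y : Subgroup G, Group.IsNilpotent X → X = ⊤ → Y ≠ ⊤ →
      ∃ N : Subgroup G, N.Normal ∧ N ≠ ⊤ ∧ Y ≤ N := by
    intro X Y hX hXt hY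
    subst hXt
    haveI : Group.IsNilpotent G := Cores.isNilpotent_of_injective
      (Subgroup.topEquiv (G := G)).symm.toMonoidHom (Subgroup.topEquiv (G := G)).symm.injective
    obtain ⟨M, hM, hYM⟩ := (eq_top_or_exists_le_coatom Y).resolve_left hY
    exact ⟨M, Subgroup.NormalizerCondition.normal_of_coatom M Group.normalizerCondition_of_isNilpotent hM,
      hM.1, hYM⟩
  by_cases hAt : A = ⊤
  · obtain ⟨N, h1, h2, h3⟩ := htop A B hA hAt (hprop.resolve_left (not_not.mpr hAt))
    exact ⟨N, h1, h2, Or.inr h3⟩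
  by_cases hBt : B = ⊤
  · obtain ⟨N, h1, h2, h3⟩ := htop B A hB hBt hAt
    exact ⟨N, h1, h2, Or.inl h3⟩
  by_contra hno
  haveI : Nontrivial G := by
    by_contra hn'
    rw [not_nontrivial_iff_subsingleton] at hn'
    exact hAt (Subgroup.eq_top_iff' A |>.mpr fun x => Subsingleton.elim 1 x ▸ one_mem A)
  -- abelian normal subgroups are complemented by both factors
  have key : ∀ N : Subgroup G, N.Normal → N ≠ ⊥ → IsMulCommutative N → A ⊔ N = ⊤ ∧ B ⊔ N = ⊤ := by
    intro N hN hN0 _
    haveI := hN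
    by_contra hc
    set π := QuotientGroup.mk' N with hπ
    have hsurj := QuotientGroup.mk'_surjective N
    have hmapne : ∀ {X : Subgroup G}, X ⊔ N ≠ ⊤ → X.map π ≠ ⊤ := by
      intro X hX e
      have := congrArg (Subgroup.comap π) e
      rw [Subgroup.comap_map_eq, Subgroup.comap_top, hπ, QuotientGroup.ker_mk'] at this
      exact hX this
    have hlt : Nat.card (G ⧸ N) < n := by
      rw [← hn, Subgroup.card_eq_card_quotient_mul_card_subgroup N]
      exact lt_mul_of_one_lt_right Nat.card_pos (N.one_lt_card_iff_ne_bot.mpr hN0)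
    obtain ⟨M, hM, hMt, hle⟩ := IH _ hlt (G ⧸ N) rfl (Coprime.isSolvable_of_surjective' hsurj hs)
      (A.map π) (B.map π) (Cores.isNilpotent_map π A) (Cores.isNilpotent_map π B)
      (fac_map hAB π hsurj) ((not_and_or.mp hc).imp hmapne hmapne)
    exact hno ⟨M.comap π, hM.comap π, fun e => hMt (by
      rw [← Subgroup.map_comap_eq_self_of_surjective hsurj M, e, Subgroup.map_top_of_surjective π hsurj]),
      hle.imp Subgroup.map_le_iff_le_comap.mp Subgroup.map_le_iff_le_comap.mp⟩
  obtain ⟨p, hp, N, hN, hNc, hN0, hNp⟩ : ∃ p : ℕ, p.Prime ∧ ∃ N : Subgroup G,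
      N.Normal ∧ IsMulCommutative N ∧ N ≠ ⊥ ∧ IsPGroup p N := by
    obtain ⟨p, hp, hc⟩ := Products.exists_normal_pSubgroup hs
    haveI := Fact.mk hp
    haveI : Nontrivial (Cfsg.pCore p G) := (Subgroup.nontrivial_iff_ne_bot _).mpr hc
    haveI := (Cores.pCore_isPGroup p G).center_nontrivial
    refine ⟨p, hp, (Subgroup.center (Cfsg.pCore p G)).map (Cfsg.pCore p G).subtype, ?_, inferInstance, ?_, ?_⟩
    · haveI := Cfsg.pCore_normal p G
      exact inferInstance
    · rw [Ne, Subgroup.map_eq_bot_iff_of_injective _ (Subgroup.subtype_injective _)]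
      exact (Subgroup.nontrivial_iff_ne_bot _).mp inferInstance
    · exact ((Cores.pCore_isPGroup p G).to_subgroup _).map _
  haveI := Fact.mk hp
  haveI := hN
  obtain ⟨hAN, hBN⟩ := key N hN hN0 hNc
  have hNA : N ≤ Subgroup.normalizer (N : Set G) := Subgroup.le_normalizer
  -- each factor meets `N` trivially and is a `p'`-group
  have side : ∀ X : Subgroup G, Group.IsNilpotent X → X ≠ ⊤ → X ⊔ N = ⊤ →
      (∀ N' : Subgroup G, N'.Normal → N' ≠ ⊥ → IsMulCommutative N' → X ⊔ N' = ⊤) →
      ¬ p ∣ Nat.card X := by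
    intro X hX hXt hXN hkey hpd
    have hsmall : ∀ N' : Subgroup G, N'.Normal → IsMulCommutative N' → N' ≤ X → N' = ⊥ := by
      intro N' h1 h2 h3
      by_contra h0
      exact hXt (le_antisymm le_top ((hkey N' h1 h0 h2).ge.trans (sup_le le_rfl h3)))
    have hnormal : ∀ Y : Subgroup G, X ≤ Subgroup.normalizer (Y : Set G) →
        N ≤ Subgroup.normalizer (Y : Set G) → Y.Normal := fun Y h1 h2 =>
      Subgroup.normalizer_eq_top_iff.mp (top_le_iff.mp (hXN.ge.trans (sup_le h1 h2)))
    have hab : ∀ u ∈ N, ∀ v ∈ N, u * v = v * u := fun u hu v hv =>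
      congrArg Subtype.val (hNc.is_comm.comm (⟨u, hu⟩ : N) ⟨v, hv⟩)
    have hinf : X ⊓ N = ⊥ := by
      refine hsmall _ (hnormal _ ?_ ?_) ⟨⟨fun u v => Subtype.ext (hab _ u.2.2 _ v.2.2)⟩⟩ inf_le_left
      · exact (le_inf Subgroup.le_normalizer (fun x _ => by rw [Subgroup.normalizer_eq_top]; trivial)).trans
          Subgroup.inf_normalizer_le_normalizer_inf
      · refine le_trans (fun u hu => ?_) (Subgroup.centralizer_le_normalizer _)
        exact Subgroup.mem_centralizer_iff.mpr fun w hw => hab w (show w ∈ X ⊓ N from hw).2 u hu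
    obtain ⟨z, hz, hzo, hzc⟩ := exists_central_of_dvd hX hpd
    -- the fixed points of `z` on `N`
    set C := Subgroup.centralizer ({z} : Set G) ⊓ N with hC
    have hC0 : C ≠ ⊥ := by
      intro e
      have hact : IsPGroup p (Subgroup.zpowers z) := IsPGroup.of_card (n := 1) (by
        rw [Nat.card_zpowers, hzo, pow_one])
      haveI : N.Normal := hN
      let act : MulAction (Subgroup.zpowers z) N :=
        MulAction.compHom N ((MulAut.conjNormal (H := N)).comp (Subgroup.zpowers z).subtype)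
      obtain ⟨k, hk⟩ := IsPGroup.iff_card.mp hNp
      have hk0 : k ≠ 0 := fun h0 => hN0 (Subgroup.card_eq_one.mp (by rw [hk, h0, pow_zero]))
      obtain ⟨w, hw, hwne⟩ := hact.exists_fixed_point_of_prime_dvd_card_of_fixed_point N
        (by rw [hk]; exact dvd_pow_self p hk0) (a := (1 : N)) (fun g => by
          show MulAut.conjNormal ((g : G)) (1 : N) = 1
          exact map_one _)
      refine hwne (Subtype.ext ?_)
      have h1 : (w : G) ∈ C := ⟨Subgroup.mem_centralizer_singleton_iff.mpr (by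
        have h2 : MulAut.conjNormal z w = w := hw ⟨z, Subgroup.mem_zpowers z⟩
        have h3 : z * w * z⁻¹ = w := by
          have := congrArg Subtype.val h2
          rwa [MulAut.conjNormal_apply] at this
        calc (w : G) * z = (z * w * z⁻¹) * z := by rw [h3]
          _ = z * w := by group), w.2⟩
      rw [e, Subgroup.mem_bot] at h1
      exact h1.symm
    have hCn : C.Normal := by
      refine hnormal C (fun x hx => ?_) ?_
      · refine Subgroup.inf_normalizer_le_normalizer_inf ⟨Subgroup.le_normalizer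
          (Subgroup.mem_centralizer_singleton_iff.mpr (hzc x hx)), ?_⟩
        · rw [Subgroup.normalizer_eq_top]; trivial
      · refine le_trans (fun u hu => ?_) (Subgroup.centralizer_le_normalizer _)
        exact Subgroup.mem_centralizer_iff.mpr fun w hw => hab w (show w ∈ C from hw).2 u hu
    have hCtop : X ⊔ C = ⊤ := hkey C hCn hC0 ⟨⟨fun u v => Subtype.ext (hab _ u.2.2 _ v.2.2)⟩⟩
    have hcN : N ≤ Subgroup.centralizer ({z} : Set G) := by
      intro u hu
      obtain ⟨x, hx, c, hc, hxc⟩ := Subgroup.mem_sup_of_normal_right.mp (hCtop.ge (Subgroup.mem_top u))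
      have hxN : x ∈ X ⊓ N := ⟨hx, by
        have : x = u * c⁻¹ := by rw [← hxc]; group
        rw [this]; exact N.mul_mem hu (N.inv_mem (show c ∈ C from hc).2)⟩
      rw [hinf, Subgroup.mem_bot] at hxN
      rw [hxN, one_mul] at hxc
      exact hxc ▸ hc.1
    have hzn : (Subgroup.zpowers z).Normal := by
      refine hnormal _ ?_ ?_
      · rw [Subgroup.le_normalizer_iff]
        intro x hx w hw
        obtain ⟨k, rfl⟩ := Subgroup.mem_zpowers_iff.mp hw
        exact Subgroup.mem_zpowers_iff.mpr ⟨k, by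
          rw [((show Commute x z from hzc x hx).zpow_right k).eq]; group⟩
      · refine le_trans (fun u hu => ?_) (Subgroup.centralizer_le_normalizer _)
        refine Subgroup.mem_centralizer_iff.mpr fun w hw => ?_
        obtain ⟨k, rfl⟩ := Subgroup.mem_zpowers_iff.mp hw
        exact (((show Commute u z from Subgroup.mem_centralizer_singleton_iff.mp (hcN hu)).zpow_right k).eq).symm
    have := hsmall _ hzn inferInstance (Subgroup.zpowers_le.mpr hz)
    rw [Subgroup.zpowers_eq_bot] at this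
    rw [this, orderOf_one] at hzo
    exact hp.ne_one hzo.symm
  have hA' := side A hA hAt hAN fun N' h1 h2 h3 => (key N' h1 h2 h3).1
  have hB' := side B hB hBt hBN fun N' h1 h2 h3 => (key N' h1 h2 h3).2
  have hpG : p ∣ Nat.card G := by
    obtain ⟨k, hk⟩ := IsPGroup.iff_card.mp hNp
    refine dvd_trans ?_ (Subgroup.card_subgroup_dvd_card N)
    rw [hk]
    exact dvd_pow_self p fun h0 => hN0 (Subgroup.card_eq_one.mp (by rw [hk, h0, pow_zero]))
  have hd : Nat.card G ∣ Nat.card A * Nat.card B := by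
    have h1 := Products.card_mul_set_mul_card_inf A B
    have huniv : (A : Set G) * (B : Set G) = Set.univ := Set.eq_univ_of_forall fun x => by
      obtain ⟨a, ha, b, hb, rfl⟩ := hAB x
      exact Set.mul_mem_mul ha hb
    rw [huniv, Nat.card_congr (Equiv.Set.univ G)] at h1
    exact Dvd.intro _ h1
  exact (hp.dvd_mul.mp (hpG.trans hd)).elim hA' hB'

/-- Kegel and Wielandt: a finite product of two nilpotent subgroups is solvable. -/
theorem isSolvable_aux : ∀ (n : ℕ) (G : Type u) [Group G] [Finite G], Nat.card G = n →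
    ∀ A B : Subgroup G, Group.IsNilpotent A → Group.IsNilpotent B →
    (∀ g : G, ∃ a ∈ A, ∃ b ∈ B, g = a * b) → Group.IsSolvable G := by
  intro n
  induction n using Nat.strongRecOn with
  | ind n IH =>
  intro G _ _ hn A B hA hB hAB
  by_contra hns
  have hAt : A ≠ ⊤ := fun e => hns (by
    subst e
    exact Coprime.isSolvable_of_surjective' (f := (Subgroup.topEquiv (G := G)).toMonoidHom)
      (Subgroup.topEquiv (G := G)).surjective inferInstance)
  have hBt : B ≠ ⊤ := fun e => hns (by
    subst e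
    exact Coprime.isSolvable_of_surjective' (f := (Subgroup.topEquiv (G := G)).toMonoidHom)
      (Subgroup.topEquiv (G := G)).surjective inferInstance)
  have hquot : ∀ N : Subgroup G, [N.Normal] → N ≠ ⊥ → Group.IsSolvable (G ⧸ N) := by
    intro N _ hN0
    refine IH _ ?_ (G ⧸ N) rfl (A.map (QuotientGroup.mk' N)) (B.map (QuotientGroup.mk' N))
      (Cores.isNilpotent_map _ A) (Cores.isNilpotent_map _ B)
      (fac_map hAB _ (QuotientGroup.mk'_surjective N))
    rw [← hn, Subgroup.card_eq_card_quotient_mul_card_subgroup N]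
    exact lt_mul_of_one_lt_right Nat.card_pos (N.one_lt_card_iff_ne_bot.mpr hN0)
  have hext : ∀ N : Subgroup G, [N.Normal] → Group.IsSolvable (G ⧸ N) → Group.IsSolvable N →
      Group.IsSolvable G := by
    intro N _ h1 h2
    exact Group.isSolvable_of_ker_le_range N.subtype (QuotientGroup.mk' N)
      (by rw [QuotientGroup.ker_mk', Subgroup.range_subtype])
  have hsub : ∀ (K : Subgroup G), K ≠ ⊤ → (∀ k ∈ K, ∃ a ∈ A ⊓ K, ∃ b ∈ B ⊓ K, k = a * b) →
      Group.IsSolvable K := by
    intro K hK hf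
    refine IH _ ?_ K rfl ((A ⊓ K).subgroupOf K) ((B ⊓ K).subgroupOf K) ?_ ?_ ?_
    · rw [← hn]
      exact lt_of_le_of_ne (Subgroup.card_le_card_group K) fun e => hK (Subgroup.eq_top_of_card_eq K e)
    · exact Cores.isNilpotent_of_injective ((Subgroup.inclusion (inf_le_left : A ⊓ K ≤ A)).comp
        (Subgroup.subgroupOfEquivOfLe (inf_le_right : A ⊓ K ≤ K)).toMonoidHom)
        ((Subgroup.inclusion_injective (inf_le_left : A ⊓ K ≤ A)).comp
          (Subgroup.subgroupOfEquivOfLe (inf_le_right : A ⊓ K ≤ K)).injective)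
    · exact Cores.isNilpotent_of_injective ((Subgroup.inclusion (inf_le_left : B ⊓ K ≤ B)).comp
        (Subgroup.subgroupOfEquivOfLe (inf_le_right : B ⊓ K ≤ K)).toMonoidHom)
        ((Subgroup.inclusion_injective (inf_le_left : B ⊓ K ≤ B)).comp
          (Subgroup.subgroupOfEquivOfLe (inf_le_right : B ⊓ K ≤ K)).injective)
    · intro k
      obtain ⟨a, ha, b, hb, he⟩ := hf k k.2
      exact ⟨⟨a, ha.2⟩, ha, ⟨b, hb.2⟩, hb, Subtype.ext he⟩
  have hsolbot : ∀ N : Subgroup G, N.Normal → Group.IsSolvable N → N = ⊥ := by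
    intro N hN hs
    haveI := hN
    by_contra h0
    exact hns (hext N (hquot N h0) hs)
  -- no proper normal subgroup contains a factor
  have hcont : ∀ N : Subgroup G, N.Normal → N ≠ ⊤ → (A ≤ N ∨ B ≤ N) → N = ⊥ := by
    intro N hN hNt hle
    refine hsolbot N hN (hsub N hNt ?_)
    rcases hle with hle | hle
    · exact factor_of_le hAB hle
    · exact fun k hk => by
        obtain ⟨b, hb, a, ha, he⟩ := factor_of_le (fac_symm hAB) hle k⁻¹ (inv_mem hk)
        exact ⟨a⁻¹, inv_mem ha, b⁻¹, inv_mem hb, by rw [← mul_inv_rev, ← he, inv_inv]⟩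
  have hA0 : A ≠ ⊥ := fun e => hBt (eq_top_iff.mpr fun g _ => by
    obtain ⟨a, ha, b, hb, rfl⟩ := hAB g
    rw [e, Subgroup.mem_bot] at ha
    rwa [ha, one_mul])
  have hB0 : B ≠ ⊥ := fun e => hAt (eq_top_iff.mpr fun g _ => by
    obtain ⟨a, ha, b, hb, rfl⟩ := hAB g
    rw [e, Subgroup.mem_bot] at hb
    rwa [hb, mul_one])
  have hpcore : ∀ p : ℕ, p.Prime → ∀ N : Subgroup G, N.Normal → IsPGroup p N → N = ⊥ := by
    intro p hp N hN hpN
    haveI := Fact.mk hp
    exact hsolbot N hN (@IsNilpotent.to_isSolvable _ _ hpN.isNilpotent)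
  -- common primes
  have hcop : (Nat.card A).Coprime (Nat.card B) := by
    refine Nat.coprime_of_dvd fun p hp hpA hpB => ?_
    haveI := Fact.mk hp
    obtain ⟨PA, PB, R, hR⟩ := Products.exists_sylow_mul A B hAB p
    rw [pPart_eq_sylow hA p PA, pPart_eq_sylow hB p PB] at hR
    have hperm : PermP p (pPart A p) (pPart B p) := by
      intro x
      obtain ⟨c, hc1, hc2⟩ := exists_conj_pair hAB (le_normalizer_pPart A p) (le_normalizer_pPart B p) 1 x
      rw [Coprime.conj_one_smul] at hc1
      have hSset : ((MulAut.conj c • (R : Subgroup G) : Subgroup G) : Set G) =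
          (pPart A p : Set G) * ((MulAut.conj x • pPart B p : Subgroup G) : Set G) := by
        rw [Subgroup.coe_pointwise_smul, hR, smul_mul', ← Subgroup.coe_pointwise_smul,
          ← Subgroup.coe_pointwise_smul, ← hc1, ← hc2]
      refine ⟨(Coprime.isPGroup_conj_smul (g := c) R.2).to_le (sup_le (fun w hw => ?_) (fun w hw => ?_)), ?_⟩
      · rw [← SetLike.mem_coe, hSset]; exact ⟨w, hw, 1, one_mem _, mul_one w⟩
      · rw [← SetLike.mem_coe, hSset]; exact ⟨1, one_mem _, w, hw, one_mul w⟩
      · conv_lhs => rw [← hSset, ← inv_coe_set (H := MulAut.conj c • (R : Subgroup G)), hSset,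
          mul_inv_rev, inv_coe_set, inv_coe_set]
    obtain ⟨X', hle, hX'p, hnorm⟩ := exists_normalized hperm
    set M := Subgroup.normalClosure ((pPart B p : Subgroup G) : Set G) with hM
    haveI hMn : M.Normal := Subgroup.normalClosure_normal
    have hM0 : M ≠ ⊥ := fun e => pPart_ne_bot hB hpB (le_bot_iff.mp (e ▸ Subgroup.le_normalClosure))
    have hX'0 : X' ≠ ⊥ := fun e => pPart_ne_bot hA hpA (le_bot_iff.mp (e ▸ hle))
    have hinf : M ⊓ X' = ⊥ := by
      set Y := (M ⊓ X').subgroupOf M with hY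
      haveI hYn : Y.Normal := Subgroup.normal_subgroupOf_of_le_normalizer
        ((le_inf Subgroup.le_normalizer hnorm).trans Subgroup.inf_normalizer_le_normalizer_inf)
      have hYp : IsPGroup p Y := (hX'p.to_le inf_le_right).comap_of_injective _ M.subtype_injective
      have hYle : Y.map M.subtype ≤ (Cfsg.pCore p M).map M.subtype :=
        Subgroup.map_mono (Cores.le_pCore hYn hYp)
      have hbot : (Cfsg.pCore p M).map M.subtype = ⊥ := by
        haveI := Cfsg.pCore_normal p M
        exact hpcore p hp _ inferInstance ((Cores.pCore_isPGroup p M).map _)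
      rw [hbot, hY, Subgroup.map_subgroupOf_eq_of_le inf_le_left] at hYle
      exact le_bot_iff.mp hYle
    have hcentX : X' ≤ Subgroup.centralizer (M : Set G) := by
      intro x hx
      refine Subgroup.mem_centralizer_iff.mpr fun m hm => ?_
      have h1 : m * x * m⁻¹ * x⁻¹ ∈ X' := mul_mem ((Subgroup.mem_normalizer_iff.mp (hnorm hm) x).mp hx) (inv_mem hx)
      have h2 : m * x * m⁻¹ * x⁻¹ ∈ M := by
        have := mul_mem hm (hMn.conj_mem m⁻¹ (inv_mem hm) x)
        simpa [mul_assoc] using this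
      have h3 : m * x * m⁻¹ * x⁻¹ = 1 := by
        have : m * x * m⁻¹ * x⁻¹ ∈ M ⊓ X' := ⟨h2, h1⟩
        rwa [hinf, Subgroup.mem_bot] at this
      calc m * x = (m * x * m⁻¹ * x⁻¹) * (x * m) := by group
        _ = x * m := by rw [h3, one_mul]
    have hC0 : Subgroup.centralizer (M : Set G) ≠ ⊥ := fun e => hX'0 (le_bot_iff.mp (e ▸ hcentX))
    haveI hCn : (Subgroup.centralizer (M : Set G)).Normal := inferInstance
    have hMC : M ⊓ Subgroup.centralizer (M : Set G) = ⊥ := by
      have hcom : IsMulCommutative (M ⊓ Subgroup.centralizer (M : Set G) : Subgroup G) :=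
        ⟨⟨fun u v => Subtype.ext (Subgroup.mem_centralizer_iff.mp v.2.2 u u.2.1)⟩⟩
      exact hsolbot _ inferInstance (Coprime.isSolvable_of_isMulCommutative _)
    haveI := hquot M hM0
    haveI := hquot _ hC0
    refine hns (Coprime.isSolvable_of_injective
      (f := (QuotientGroup.mk' M).prod (QuotientGroup.mk' (Subgroup.centralizer (M : Set G)))) ?_ inferInstance)
    rw [← MonoidHom.ker_eq_bot_iff, MonoidHom.ker_prod, QuotientGroup.ker_mk', QuotientGroup.ker_mk', hMC]
  -- the group is simple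
  have hsimple : ∀ N : Subgroup G, N.Normal → N = ⊥ ∨ N = ⊤ := by
    intro N hN
    haveI := hN
    by_contra hc
    push Not at hc
    set π := QuotientGroup.mk' N with hπ
    have hsurj := QuotientGroup.mk'_surjective N
    have hboth : A.map π = ⊤ ∧ B.map π = ⊤ := by
      by_contra hb
      obtain ⟨M, hM, hMt, hle⟩ := exists_normal_aux _ (G ⧸ N) rfl (hquot N hc.1) (A.map π) (B.map π)
        (Cores.isNilpotent_map π A) (Cores.isNilpotent_map π B) (fac_map hAB π hsurj) (not_and_or.mp hb)
      have := hcont (M.comap π) (hM.comap π) (fun e => hMt (by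
        rw [← Subgroup.map_comap_eq_self_of_surjective hsurj M, e, Subgroup.map_top_of_surjective π hsurj]))
        (hle.imp Subgroup.map_le_iff_le_comap.mp Subgroup.map_le_iff_le_comap.mp)
      exact hc.1 (le_bot_iff.mp (this ▸ (by
        intro x hx
        rw [Subgroup.mem_comap, show π x = 1 from (QuotientGroup.eq_one_iff x).mpr hx]
        exact one_mem M)))
    obtain ⟨q, hq, hqd⟩ := Nat.exists_prime_and_dvd (n := Nat.card (G ⧸ N)) (fun e => hc.2 (by
      rw [← Subgroup.index_eq_one]; exact e))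
    have hdiv : ∀ X : Subgroup G, X.map π = ⊤ → q ∣ Nat.card X := fun X hX => by
      refine hqd.trans ?_
      rw [← Subgroup.card_top (G := G ⧸ N), ← hX]
      exact Subgroup.card_map_dvd (H := X) π
    exact hq.ne_one (Nat.eq_one_of_dvd_coprimes hcop (hdiv A hboth.1) (hdiv B hboth.2))
  exact Config.false (A := A) (B := B)
    { simple := hsimple
      notPrime := fun hpr => hns (by
        haveI := Fact.mk hpr
        haveI := isCyclic_of_prime_card (α := G) rfl
        exact Group.isSolvable_of_comm fun a b => (IsCyclic.commGroup (α := G)).mul_comm a b)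
      nilA := hA, nilB := hB, cop := hcop, fac := hAB
      A_ne_bot := hA0, B_ne_bot := hB0, A_ne_top := hAt, B_ne_top := hBt
      ind := hsub }

end Cfsg.Agent.Lib.Solvable.KegelWielandt
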