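import Cfsg.Agent.Lib.Cores
import Cfsg.Agent.Lib.Coprime
import Cfsg.Agent.Lib.Solvable.Schmidt
import Cfsg.Agent.Lib.Solvable.Products
import Mathlib

/-!
Preliminaries for the theorem of Kegel and Wielandt: parts of nilpotent subgroups,
elementary facts on factorized groups.
-/

set_option autoImplicit false

open Pointwise

namespace Cfsg.Agent.Lib.Solvable.KegelWielandt

open Cfsg.Agent.Lib

variable {G : Type*} [Group G]

/-- The subgroup generated by the `r`-elements of `A`. -/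
def pPart (A : Subgroup G) (r : ℕ) : Subgroup G :=
  Subgroup.closure {x | x ∈ A ∧ ∃ k : ℕ, x ^ r ^ k = 1}

/-- The subgroup generated by the elements of prime power order of `A`, the prime not `r`. -/
def coPart (A : Subgroup G) (r : ℕ) : Subgroup G :=
  Subgroup.closure {x | x ∈ A ∧ ∃ q k : ℕ, q.Prime ∧ q ≠ r ∧ x ^ q ^ k = 1}

theorem pPart_le (A : Subgroup G) (r : ℕ) : pPart A r ≤ A := by
  rw [pPart, Subgroup.closure_le]; exact fun x hx => hx.1

theorem coPart_le (A : Subgroup G) (r : ℕ) : coPart A r ≤ A := by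
  rw [coPart, Subgroup.closure_le]; exact fun x hx => hx.1

theorem pPart_le_coPart (A : Subgroup G) {r q : ℕ} (hq : q.Prime) (hne : q ≠ r) :
    pPart A q ≤ coPart A r :=
  Subgroup.closure_mono fun _ hx => ⟨hx.1, q, hx.2.choose, hq, hne, hx.2.choose_spec⟩

theorem mem_pPart {A : Subgroup G} {r k : ℕ} {x : G} (hx : x ∈ A) (hk : x ^ r ^ k = 1) :
    x ∈ pPart A r :=
  Subgroup.subset_closure ⟨hx, k, hk⟩

theorem le_normalizer_closure {A : Subgroup G} {S : Set G}
    (h : ∀ a ∈ Subgroup.normalizer (A : Set G), ∀ x ∈ S, a * x * a⁻¹ ∈ S) :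
    Subgroup.normalizer (A : Set G) ≤ Subgroup.normalizer (Subgroup.closure S : Set G) := by
  rw [Subgroup.le_normalizer_iff]
  intro a ha x hx
  refine Subgroup.closure_induction (p := fun y _ => a * y * a⁻¹ ∈ Subgroup.closure S)
    (fun y hy => Subgroup.subset_closure (h a ha y hy)) (by simp) (fun y z _ _ hy hz => ?_)
    (fun y _ hy => ?_) hx
  · have := mul_mem hy hz
    simpa [mul_assoc] using this
  · have := inv_mem hy
    simpa [mul_assoc] using this

theorem normalizer_le_pPart (A : Subgroup G) (r : ℕ) :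
    Subgroup.normalizer (A : Set G) ≤ Subgroup.normalizer (pPart A r : Set G) :=
  le_normalizer_closure fun a ha x ⟨hx, k, hk⟩ =>
    ⟨(Subgroup.mem_normalizer_iff.mp ha x).mp hx, k, by rw [conj_pow, hk]; group⟩

theorem normalizer_le_coPart (A : Subgroup G) (r : ℕ) :
    Subgroup.normalizer (A : Set G) ≤ Subgroup.normalizer (coPart A r : Set G) :=
  le_normalizer_closure fun a ha x ⟨hx, q, k, hq, hne, hk⟩ =>
    ⟨(Subgroup.mem_normalizer_iff.mp ha x).mp hx, q, k, hq, hne, by rw [conj_pow, hk]; group⟩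

theorem le_normalizer_pPart (A : Subgroup G) (r : ℕ) : A ≤ Subgroup.normalizer (pPart A r : Set G) :=
  Subgroup.le_normalizer.trans (normalizer_le_pPart A r)

theorem le_normalizer_coPart (A : Subgroup G) (r : ℕ) : A ≤ Subgroup.normalizer (coPart A r : Set G) :=
  Subgroup.le_normalizer.trans (normalizer_le_coPart A r)

section Nilpotent

variable [Finite G] {A : Subgroup G} (hA : Group.IsNilpotent A)

include hA

theorem pPart_le_pCore (r : ℕ) [Fact r.Prime] :
    pPart A r ≤ (Cfsg.pCore r A).map A.subtype := by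
  rw [pPart, Subgroup.closure_le]
  rintro x ⟨hx, k, hk⟩
  have hp : IsPGroup r (Subgroup.zpowers (⟨x, hx⟩ : A)) := by
    obtain ⟨j, -, hj⟩ := (Nat.dvd_prime_pow (Fact.out : r.Prime)).mp
      (show orderOf (⟨x, hx⟩ : A) ∣ r ^ k from orderOf_dvd_of_pow_eq_one (Subtype.ext (by simpa using hk)))
    exact IsPGroup.of_card (n := j) (by rw [Nat.card_zpowers, hj])
  obtain ⟨P, hP⟩ := hp.exists_le_sylow
  exact ⟨⟨x, hx⟩, Cores.le_pCore
    (Sylow.normal_of_normalizerCondition Group.normalizerCondition_of_isNilpotent P) P.2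
    (hP (Subgroup.mem_zpowers _)), rfl⟩

theorem isPGroup_pPart (r : ℕ) [Fact r.Prime] : IsPGroup r (pPart A r) :=
  ((Cores.pCore_isPGroup r A).map A.subtype).to_le (pPart_le_pCore hA r)

theorem sylow_le_pPart (r : ℕ) [Fact r.Prime] (P : Sylow r A) :
    (P : Subgroup A).map A.subtype ≤ pPart A r := by
  rintro _ ⟨x, hx, rfl⟩
  obtain ⟨k, hk⟩ := P.2 ⟨x, hx⟩
  exact mem_pPart (k := k) x.2 (by simpa [Subtype.ext_iff] using hk)

theorem card_pPart (r : ℕ) [Fact r.Prime] :
    Nat.card (pPart A r) = r ^ (Nat.card A).factorization r := by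
  obtain ⟨P⟩ : Nonempty (Sylow r A) := inferInstance
  obtain ⟨n, hn⟩ := IsPGroup.iff_card.mp (isPGroup_pPart hA r)
  rw [hn]
  have h1 : r ^ n ∣ Nat.card A := hn ▸ Subgroup.card_dvd_of_le (pPart_le A r)
  have h2 : r ^ (Nat.card A).factorization r ∣ r ^ n := by
    rw [← hn, ← P.card_eq_multiplicity,
      ← Subgroup.card_map_of_injective (K := (P : Subgroup A)) A.subtype_injective]
    exact Subgroup.card_dvd_of_le (sylow_le_pPart hA r P)
  have h3 := ((Fact.out : r.Prime).pow_dvd_iff_le_factorization Nat.card_pos.ne').mp h1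
  exact Nat.dvd_antisymm (pow_dvd_pow _ h3) h2

theorem pPart_eq_sylow (r : ℕ) [Fact r.Prime] (P : Sylow r A) :
    (P : Subgroup A).map A.subtype = pPart A r :=
  Coprime.eq_of_le_of_card_le (sylow_le_pPart hA r P)
    (by rw [card_pPart hA r, Subgroup.card_map_of_injective A.subtype_injective, P.card_eq_multiplicity])

theorem pPart_ne_bot {r : ℕ} [Fact r.Prime] (hr : r ∣ Nat.card A) : pPart A r ≠ ⊥ := by
  intro e
  have := card_pPart hA r
  rw [e, Subgroup.card_bot] at this
  exact (Nat.one_lt_pow ((Fact.out : r.Prime).factorization_pos_of_dvd Nat.card_pos.ne' hr).ne'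
    (Fact.out : r.Prime).one_lt).ne this

theorem commute_pPart {r q : ℕ} [Fact r.Prime] [Fact q.Prime] (hne : r ≠ q) :
    pPart A r ≤ Subgroup.centralizer (pPart A q : Set G) := by
  intro x hx
  rw [Subgroup.mem_centralizer_iff]
  intro y hy
  obtain ⟨x', hx', rfl⟩ := pPart_le_pCore hA r hx
  obtain ⟨y', hy', rfl⟩ := pPart_le_pCore hA q hy
  have h := Subgroup.mem_centralizer_iff.mp
    (Schmidt.commute_of_coprime_orderOf hne (Cores.pCore_isPGroup r A) (Cores.pCore_isPGroup q A) hx')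
    y' hy'
  exact congrArg Subtype.val h

theorem coPart_le_centralizer_pPart (r : ℕ) [Fact r.Prime] :
    coPart A r ≤ Subgroup.centralizer (pPart A r : Set G) := by
  rw [coPart, Subgroup.closure_le]
  rintro x ⟨hx, q, k, hq, hne, hk⟩
  haveI := Fact.mk hq
  exact commute_pPart hA hne (mem_pPart hx hk)

omit hA in
theorem le_of_forall_pPart_le {K : Subgroup G}
    (h : ∀ q : ℕ, q.Prime → pPart A q ≤ K) (hA : Group.IsNilpotent A) : A ≤ K := by
  have h' : ∀ q : ℕ, q.Prime → pPart A q ≤ K ⊓ A := fun q hq => le_inf (h q hq) (pPart_le A q)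
  have hd : Nat.card A ∣ Nat.card (K ⊓ A : Subgroup G) := by
    refine (Nat.factorization_le_iff_dvd Nat.card_pos.ne' Nat.card_pos.ne').mp fun q => ?_
    by_cases hq : q.Prime
    · haveI := Fact.mk hq
      refine (hq.pow_dvd_iff_le_factorization Nat.card_pos.ne').mp ?_
      rw [← card_pPart hA q]
      exact Subgroup.card_dvd_of_le (h' q hq)
    · simp [hq]
  have := Coprime.eq_of_le_of_card_le (inf_le_right : K ⊓ A ≤ A) (Nat.le_of_dvd Nat.card_pos hd)
  exact this ▸ inf_le_left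

theorem le_coPart_sup_coPart {r s : ℕ} (hne : r ≠ s) :
    A ≤ coPart A r ⊔ coPart A s := by
  refine le_of_forall_pPart_le (fun q hq => ?_) hA
  by_cases hqr : q = r
  · exact le_sup_of_le_right (pPart_le_coPart A hq (fun e => hne (hqr ▸ e)))
  · exact le_sup_of_le_left (pPart_le_coPart A hq hqr)

theorem coPart_eq_bot_iff {r : ℕ} [Fact r.Prime] : coPart A r = ⊥ → IsPGroup r A := by
  intro h
  have hle : A ≤ pPart A r := le_of_forall_pPart_le (fun q hq => by
    by_cases hqr : q = r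
    · rw [hqr]
    · exact (pPart_le_coPart A hq hqr).trans (h.le.trans bot_le)) hA
  exact (isPGroup_pPart hA r).to_le hle

theorem exists_central_of_dvd {r : ℕ} [Fact r.Prime] (hr : r ∣ Nat.card A) :
    ∃ z ∈ A, orderOf z = r ∧ ∀ x ∈ A, x * z = z * x := by
  set P := pPart A r with hP
  haveI : Nontrivial P := (Subgroup.nontrivial_iff_ne_bot P).mpr (pPart_ne_bot hA hr)
  haveI := (isPGroup_pPart hA r).center_nontrivial
  obtain ⟨n, hn⟩ := IsPGroup.iff_card.mp ((isPGroup_pPart hA r).to_subgroup (Subgroup.center P))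
  have hr' : r ∣ Nat.card (Subgroup.center P) := by
    rw [hn]
    refine dvd_pow_self r fun h0 => ?_
    rw [h0, pow_zero] at hn
    exact (Finite.one_lt_card (α := Subgroup.center P)).ne' hn
  obtain ⟨c, hc⟩ := exists_prime_orderOf_dvd_card' r hr'
  refine ⟨((c : P) : G), pPart_le A r (c : P).2, ((Subgroup.orderOf_coe (c : P)).trans ((Subgroup.orderOf_coe c).trans hc)), ?_⟩
  have hle : A ≤ Subgroup.centralizer {((c : P) : G)} := by
    refine le_of_forall_pPart_le (fun q hq x hx => ?_) hA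
    rw [Subgroup.mem_centralizer_singleton_iff]
    haveI := Fact.mk hq
    by_cases hqr : q = r
    · subst hqr
      exact congrArg Subtype.val (Subgroup.mem_center_iff.mp c.2 ⟨x, hx⟩)
    · exact ((Subgroup.mem_centralizer_iff.mp (commute_pPart hA hqr hx) _ (c : P).2)).symm
  exact fun x hx => Subgroup.mem_centralizer_singleton_iff.mp (hle hx)

end Nilpotent

variable [Finite G]

/-- A normalized subgroup of coprime order is absorbed. -/
theorem le_of_normalized {K Y O : Subgroup G} {n : ℕ} (hK : Nat.card K = Nat.card Y * n)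
    (hYK : Y ≤ K) (hOK : O ≤ K) (hn : (Nat.card O).Coprime n)
    (h : Y ≤ Subgroup.normalizer (O : Set G) ∨ O ≤ Subgroup.normalizer (Y : Set G)) : O ≤ Y := by
  have key : Nat.card (O ⊔ Y : Subgroup G) * Nat.card (O ⊓ Y : Subgroup G) =
      Nat.card O * Nat.card Y := by
    rcases h with h | h
    · exact Coprime.card_sup_mul_card_inf h
    · have := Coprime.card_sup_mul_card_inf h
      rw [sup_comm, inf_comm, mul_comm (Nat.card O)]
      exact this
  obtain ⟨j, hj⟩ := Subgroup.card_dvd_of_le (inf_le_left : O ⊓ Y ≤ O)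
  have e : Nat.card (O ⊔ Y : Subgroup G) = j * Nat.card Y := by
    refine Nat.eq_of_mul_eq_mul_right (Nat.card_pos (α := (O ⊓ Y : Subgroup G))) ?_
    rw [key, hj]; ring
  have hd : j ∣ n := by
    refine Nat.dvd_of_mul_dvd_mul_right (Nat.card_pos (α := Y)) ?_
    rw [← e, mul_comm n, ← hK]
    exact Subgroup.card_dvd_of_le (sup_le hOK hYK)
  have hj1 : j = 1 := Nat.eq_one_of_dvd_coprimes hn (Dvd.intro_left _ hj.symm) hd
  rw [hj1, one_mul] at e
  have := Coprime.eq_of_le_of_card_le (le_sup_right : Y ≤ O ⊔ Y) e.le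
  rw [this]; exact le_sup_left

theorem card_of_factor {A B K : Subgroup G} (hcop : (Nat.card A).Coprime (Nat.card B))
    (hf : ∀ k ∈ K, ∃ a ∈ A ⊓ K, ∃ b ∈ B ⊓ K, k = a * b) :
    Nat.card K = Nat.card (A ⊓ K : Subgroup G) * Nat.card (B ⊓ K : Subgroup G) := by
  have h := Products.card_mul_set_mul_card_inf (A ⊓ K) (B ⊓ K)
  have hinf : (A ⊓ K) ⊓ (B ⊓ K) = ⊥ :=
    le_bot_iff.mp ((inf_le_inf inf_le_left inf_le_left).trans
      (Coprime.inf_eq_bot_of_coprime_card hcop).le)
  have hset : ((A ⊓ K : Subgroup G) : Set G) * ((B ⊓ K : Subgroup G) : Set G) = (K : Set G) := by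
    ext x
    constructor
    · rintro ⟨a, ha, b, hb, rfl⟩
      exact mul_mem (show a ∈ A ⊓ K from ha).2 (show b ∈ B ⊓ K from hb).2
    · intro hx
      obtain ⟨a, ha, b, hb, rfl⟩ := hf x hx
      exact Set.mul_mem_mul ha hb
  rw [hset, hinf, Subgroup.card_bot, mul_one] at h
  exact h

theorem fac_symm {A B : Subgroup G} (h : ∀ g : G, ∃ a ∈ A, ∃ b ∈ B, g = a * b) :
    ∀ g : G, ∃ b ∈ B, ∃ a ∈ A, g = b * a := by
  intro g
  obtain ⟨a, ha, b, hb, he⟩ := h g⁻¹
  exact ⟨b⁻¹, inv_mem hb, a⁻¹, inv_mem ha, by rw [← mul_inv_rev, ← he, inv_inv]⟩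

theorem factor_symm {A B K : Subgroup G} (h : ∀ k ∈ K, ∃ a ∈ A ⊓ K, ∃ b ∈ B ⊓ K, k = a * b) :
    ∀ k ∈ K, ∃ b ∈ B ⊓ K, ∃ a ∈ A ⊓ K, k = b * a := by
  intro k hk
  obtain ⟨a, ha, b, hb, he⟩ := h k⁻¹ (inv_mem hk)
  exact ⟨b⁻¹, inv_mem hb, a⁻¹, inv_mem ha, by rw [← mul_inv_rev, ← he, inv_inv]⟩

/-- Subgroups containing one of the factors are factorized. -/
theorem factor_of_le {A B K : Subgroup G} (hAB : ∀ g : G, ∃ a ∈ A, ∃ b ∈ B, g = a * b) (hA : A ≤ K) :
    ∀ k ∈ K, ∃ a ∈ A ⊓ K, ∃ b ∈ B ⊓ K, k = a * b := by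
  intro k hk
  obtain ⟨a, ha, b, hb, rfl⟩ := hAB k
  exact ⟨a, ⟨ha, hA ha⟩, b, ⟨hb, by simpa using mul_mem (inv_mem (hA ha)) hk⟩, rfl⟩

omit [Finite G] in
/-- Any two pairs of conjugates are simultaneously conjugate. -/
theorem exists_conj_pair {A B A0 B0 : Subgroup G} (hAB : ∀ g : G, ∃ a ∈ A, ∃ b ∈ B, g = a * b)
    (hA0 : A ≤ Subgroup.normalizer (A0 : Set G)) (hB0 : B ≤ Subgroup.normalizer (B0 : Set G))
    (g h : G) : ∃ c : G, MulAut.conj g • A0 = MulAut.conj c • A0 ∧
      MulAut.conj h • B0 = MulAut.conj c • B0 := by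
  obtain ⟨a, ha, b, hb, he⟩ := hAB (g⁻¹ * h)
  refine ⟨g * a, ?_, ?_⟩
  · rw [Coprime.conj_mul_smul, Coprime.conj_smul_eq_of_mem_normalizer (hA0 ha)]
  · have hc : g * a = h * b⁻¹ := by
      have := congrArg (fun t => g * t * b⁻¹) he
      simpa [mul_assoc] using this.symm
    rw [hc, Coprime.conj_mul_smul, Coprime.conj_smul_eq_of_mem_normalizer (hB0 (inv_mem hb))]

/-- In a solvable subgroup, conjugate-stable pairs of Sylow subgroups permute. -/
theorem mul_eq_of_solvable {A B P Q H : Subgroup G}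
    (hAB : ∀ g : G, ∃ a ∈ A, ∃ b ∈ B, g = a * b)
    (hP : A ≤ Subgroup.normalizer (P : Set G)) (hQ : B ≤ Subgroup.normalizer (Q : Set G))
    {p q : ℕ} [Fact p.Prime] [Fact q.Prime] (hpq : p ≠ q)
    (hPc : Nat.card P = p ^ (Nat.card G).factorization p)
    (hQc : Nat.card Q = q ^ (Nat.card G).factorization q)
    (hH : Group.IsSolvable H) (hPH : P ≤ H) (hQH : Q ≤ H) :
    ((P ⊔ Q : Subgroup G) : Set G) = (P : Set G) * (Q : Set G) := by
  haveI := hH
  have hfac : ∀ {r : ℕ} [Fact r.Prime] {R : Subgroup G}, R ≤ H →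
      Nat.card R = r ^ (Nat.card G).factorization r →
      (Nat.card H).factorization r = (Nat.card G).factorization r := by
    intro r _ R hR hc
    refine le_antisymm ?_ (((Fact.out : r.Prime).pow_dvd_iff_le_factorization Nat.card_pos.ne').mp
      (hc ▸ Subgroup.card_dvd_of_le hR))
    exact (Nat.factorization_le_iff_dvd Nat.card_pos.ne' Nat.card_pos.ne').mpr
      (Subgroup.card_subgroup_dvd_card H) r
  have hp : p.Prime := Fact.out
  have hq : q.Prime := Fact.out
  set m := p ^ (Nat.card H).factorization p * q ^ (Nat.card H).factorization q with hm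
  have hcp : (p ^ (Nat.card H).factorization p).Coprime (q ^ (Nat.card H).factorization q) :=
    Nat.Coprime.pow _ _ ((Nat.coprime_primes hp hq).mpr hpq)
  have hmd : m ∣ Nat.card H :=
    Nat.Coprime.mul_dvd_of_dvd_of_dvd hcp (Nat.ordProj_dvd _ _) (Nat.ordProj_dvd _ _)
  obtain ⟨n, hn⟩ := hmd
  have hmn : m.Coprime n := by
    have hnd : ∀ {r : ℕ} (_ : r.Prime), r ^ (Nat.card H).factorization r ∣ m → ¬ r ∣ n := by
      intro r hr hrm hrn
      have : r ^ ((Nat.card H).factorization r + 1) ∣ Nat.card H := by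
        rw [pow_succ]; exact (mul_dvd_mul hrm hrn).trans hn.symm.dvd
      exact absurd ((hr.pow_dvd_iff_le_factorization Nat.card_pos.ne').mp this) (Nat.not_succ_le_self _)
    exact Nat.Coprime.mul_left
      (Nat.Coprime.pow_left _ (hp.coprime_iff_not_dvd.mpr (hnd hp (Dvd.intro _ hm.symm))))
      (Nat.Coprime.pow_left _ (hq.coprime_iff_not_dvd.mpr (hnd hq (Dvd.intro_left _ hm.symm))))
  obtain ⟨U, hU⟩ := Coprime.exists_subgroup_card_eq_of_solvable hn hmn
  have hsub : ∀ {r : ℕ} [Fact r.Prime] {R : Subgroup G}, R ≤ H →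
      Nat.card R = r ^ (Nat.card G).factorization r → r ^ (Nat.card H).factorization r ∣ m →
      ∃ g : G, MulAut.conj g • R ≤ U.map H.subtype := by
    intro r _ R hR hc hrm
    obtain ⟨S, hS⟩ := Sylow.exists_subgroup_card_pow_prime r (G := U) (hU ▸ hrm)
    have hcS : Nat.card (S.map U.subtype) = r ^ (Nat.card H).factorization r := by
      rw [Subgroup.card_map_of_injective U.subtype_injective, hS]
    have hcR : Nat.card (R.subgroupOf H) = r ^ (Nat.card H).factorization r := by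
      rw [Nat.card_congr (Subgroup.subgroupOfEquivOfLe hR).toEquiv, hc, hfac hR hc]
    obtain ⟨g, hg⟩ := MulAction.exists_smul_eq H (Sylow.ofCard _ hcR) (Sylow.ofCard _ hcS)
    refine ⟨(g : G), ?_⟩
    have h1 := congrArg (fun T : Sylow r H => (T : Subgroup H)) hg
    simp only [Sylow.coe_subgroup_smul, Sylow.coe_ofCard] at h1
    intro x hx
    rw [Coprime.mem_conj_smul] at hx
    have hxH : x ∈ H := by simpa [mul_assoc] using mul_mem (mul_mem g.2 (hR hx)) (inv_mem g.2)
    refine ⟨⟨x, hxH⟩, Subgroup.map_subtype_le S (h1 ▸ ?_), rfl⟩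
    rw [Coprime.mem_conj_smul]
    exact hx
  obtain ⟨g, hg⟩ := hsub hPH hPc (Dvd.intro _ hm.symm)
  obtain ⟨h, hh⟩ := hsub hQH hQc (Dvd.intro_left _ hm.symm)
  obtain ⟨c, hc1, hc2⟩ := exists_conj_pair hAB hP hQ g h
  have hle : MulAut.conj c • (P ⊔ Q) ≤ U.map H.subtype := by
    rw [Subgroup.smul_sup, ← hc1, ← hc2]
    exact sup_le hg hh
  have hcard : Nat.card (P ⊔ Q : Subgroup G) ≤ Nat.card P * Nat.card Q := by
    rw [← Coprime.card_conj_smul c]
    refine (Nat.le_of_dvd Nat.card_pos (Subgroup.card_dvd_of_le hle)).trans ?_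
    rw [Subgroup.card_map_of_injective H.subtype_injective, hU, hm, hPc, hQc, hfac hPH hPc,
      hfac hQH hQc]
  have hset : Nat.card ↥((P : Set G) * (Q : Set G)) = Nat.card P * Nat.card Q := by
    have h1 := Products.card_mul_set_mul_card_inf P Q
    rw [Coprime.inf_eq_bot_of_coprime_card (by
      rw [hPc, hQc]; exact Nat.Coprime.pow _ _ ((Nat.coprime_primes hp hq).mpr hpq)),
      Subgroup.card_bot, mul_one] at h1
    exact h1
  refine (Set.eq_of_subset_of_ncard_le ?_ ?_ (Set.toFinite _)).symm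
  · rintro _ ⟨x, hx, y, hy, rfl⟩
    exact mul_mem (Subgroup.mem_sup_left hx) (Subgroup.mem_sup_right hy)
  · rw [← Nat.card_coe_set_eq, ← Nat.card_coe_set_eq, hset]
    exact hcard

theorem exists_prime_dvd_orderOf_pow {x : G} {q : ℕ} (hq : q ∣ orderOf x) :
    orderOf (x ^ (orderOf x / q)) = q :=
  orderOf_pow_orderOf_div (orderOf_pos x).ne' hq

end Cfsg.Agent.Lib.Solvable.KegelWielandt
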