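import Cfsg.Agent.Lib.Solvable.KegelWielandt.Basic
import Cfsg.Agent.Lib.Characters.Kernel
import Cfsg.Agent.Lib.Frobenius.Kernel
import Cfsg.Agent.Lib.Frobenius.Complement
import Mathlib

/-!
A simple group is not the product of two nilpotent subgroups of coprime orders.

The proof is elementary apart from Burnside's theorem on classes of prime power size, Hall's
theorem and Frobenius' theorem: the factors are shown to be TI-subgroups, and the elements
conjugate into the factors or into the intersection of their normalizers are then too many.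
-/

set_option autoImplicit false

open Pointwise

namespace Cfsg.Agent.Lib.Solvable.KegelWielandt

open Cfsg.Agent.Lib

variable {G : Type*} [Group G] [Finite G]

/-- A minimal counterexample to Wielandt's theorem. -/
structure Config (A B : Subgroup G) : Prop where
  simple : ∀ N : Subgroup G, N.Normal → N = ⊥ ∨ N = ⊤
  notPrime : ¬ (Nat.card G).Prime
  nilA : Group.IsNilpotent A
  nilB : Group.IsNilpotent B
  cop : (Nat.card A).Coprime (Nat.card B)
  fac : ∀ g : G, ∃ a ∈ A, ∃ b ∈ B, g = a * b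
  A_ne_bot : A ≠ ⊥
  B_ne_bot : B ≠ ⊥
  A_ne_top : A ≠ ⊤
  B_ne_top : B ≠ ⊤
  ind : ∀ K : Subgroup G, K ≠ ⊤ →
    (∀ k ∈ K, ∃ a ∈ A ⊓ K, ∃ b ∈ B ⊓ K, k = a * b) → Group.IsSolvable K

/-- A non-identity central element. -/
def IsCent (A : Subgroup G) (z : G) : Prop :=
  z ∈ A ∧ z ≠ 1 ∧ ∀ x ∈ A, x * z = z * x

omit [Finite G] in
theorem IsCent.le_centralizer {A : Subgroup G} {z : G} (hz : IsCent A z) :
    A ≤ Subgroup.centralizer {z} :=
  fun x hx => Subgroup.mem_centralizer_singleton_iff.mpr (hz.2.2 x hx)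

omit [Finite G] in
theorem IsCent.le_normalizer_zpowers {A : Subgroup G} {z : G} (hz : IsCent A z) :
    A ≤ Subgroup.normalizer (Subgroup.zpowers z : Set G) := by
  rw [Subgroup.le_normalizer_iff]
  intro a ha x hx
  obtain ⟨k, rfl⟩ := Subgroup.mem_zpowers_iff.mp hx
  refine Subgroup.mem_zpowers_iff.mpr ⟨k, ?_⟩
  rw [((show Commute a z from hz.2.2 a ha).zpow_right k).eq]
  group

omit [Finite G] in
theorem IsCent.zpowers_ne_bot {A : Subgroup G} {z : G} (hz : IsCent A z) :
    Subgroup.zpowers z ≠ ⊥ := fun e => hz.2.1 (Subgroup.zpowers_eq_bot.mp e)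

namespace Config

variable {A B : Subgroup G}

theorem symm (h : Config A B) : Config B A where
  simple := h.simple
  notPrime := h.notPrime
  nilA := h.nilB
  nilB := h.nilA
  cop := h.cop.symm
  fac := fac_symm h.fac
  A_ne_bot := h.B_ne_bot
  B_ne_bot := h.A_ne_bot
  A_ne_top := h.B_ne_top
  B_ne_top := h.A_ne_top
  ind := fun K hK hf => h.ind K hK (factor_symm hf)

theorem card_eq (h : Config A B) : Nat.card G = Nat.card A * Nat.card B := by
  have h1 := Products.card_mul_set_mul_card_inf A B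
  have huniv : (A : Set G) * (B : Set G) = Set.univ := Set.eq_univ_of_forall fun x => by
    obtain ⟨a, ha, b, hb, rfl⟩ := h.fac x
    exact Set.mul_mem_mul ha hb
  rw [huniv, Coprime.inf_eq_bot_of_coprime_card h.cop, Subgroup.card_bot, mul_one,
    Nat.card_congr (Equiv.Set.univ G)] at h1
  exact h1

theorem normalizer_ne_top (h : Config A B) {N : Subgroup G} (h0 : N ≠ ⊥) (h1 : N ≠ ⊤) :
    Subgroup.normalizer (N : Set G) ≠ ⊤ := fun e =>
  (h.simple N (Subgroup.normalizer_eq_top_iff.mp e)).elim h0 h1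

theorem centralizer_ne_top (h : Config A B) {x : G} (hx : x ≠ 1) :
    Subgroup.centralizer ({x} : Set G) ≠ ⊤ := by
  intro e
  have hc : x ∈ Subgroup.center G := Subgroup.mem_center_iff.mpr fun y =>
    Subgroup.mem_centralizer_singleton_iff.mp (e ▸ Subgroup.mem_top y)
  rcases h.simple (Subgroup.center G) inferInstance with hb | ht
  · exact hx (by rw [hb] at hc; exact Subgroup.mem_bot.mp hc)
  · rcases h.simple A ⟨fun a ha g => by
      have hga : g * a = a * g := (Subgroup.mem_center_iff.mp (ht ▸ Subgroup.mem_top a) g)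
      rw [hga, mul_assoc, mul_inv_cancel, mul_one]; exact ha⟩ with h0 | h0
    · exact h.A_ne_bot h0
    · exact h.A_ne_top h0

theorem exists_prime (h : Config A B) : ∃ r : ℕ, r.Prime ∧ r ∣ Nat.card A :=
  Nat.exists_prime_and_dvd (Subgroup.one_lt_card_iff_ne_bot A |>.mpr h.A_ne_bot).ne'

theorem exists_isCent (h : Config A B) {r : ℕ} (hr : r.Prime) (hd : r ∣ Nat.card A) :
    ∃ z, IsCent A z ∧ orderOf z = r := by
  haveI := Fact.mk hr
  obtain ⟨z, hz, ho, hc⟩ := exists_central_of_dvd h.nilA hd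
  exact ⟨z, ⟨hz, fun e => hr.ne_one (by rw [← ho, e, orderOf_one]), hc⟩, ho⟩

theorem not_isPGroup (h : Config A B) {p : ℕ} [Fact p.Prime] : ¬ IsPGroup p A := by
  intro hp
  haveI : Nontrivial G := by
    obtain ⟨x, -, hx⟩ := (Subgroup.ne_bot_iff_exists_ne_one.mp h.A_ne_bot).elim
      fun a ha => (⟨(a : G), a.2, fun e => ha (Subtype.ext e)⟩ : ∃ x, x ∈ A ∧ x ≠ 1)
    exact ⟨⟨x, 1, hx⟩⟩
  haveI : IsSimpleGroup G := ⟨h.simple⟩
  obtain ⟨q, hq, hqB⟩ := h.symm.exists_prime
  obtain ⟨y, hy, -⟩ := h.symm.exists_isCent hq hqB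
  obtain ⟨n, hn⟩ := IsPGroup.iff_card.mp hp
  have hd : (Subgroup.centralizer ({y} : Set G)).index ∣ p ^ n := by
    have h1 := Subgroup.index_dvd_of_le hy.le_centralizer
    have h2 : B.index = Nat.card A := by
      refine Nat.eq_of_mul_eq_mul_right (Nat.card_pos (α := B)) ?_
      rw [Subgroup.index_mul_card, h.card_eq]
    rwa [h2, hn] at h1
  obtain ⟨k, -, hk⟩ := (Nat.dvd_prime_pow (Fact.out : p.Prime)).mp hd
  exact h.notPrime (Characters.card_prime_of_class_primePow Fact.out hy.2.1 hk)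

theorem exists_other_prime (h : Config A B) (p : ℕ) [Fact p.Prime] :
    ∃ r : ℕ, r.Prime ∧ r ≠ p ∧ r ∣ Nat.card A := by
  by_contra hc
  push Not at hc
  refine h.not_isPGroup (p := p) (IsPGroup.of_card (n := (Nat.card A).primeFactorsList.length) ?_)
  exact Nat.eq_prime_pow_of_unique_prime_dvd Nat.card_pos.ne' fun {d} hd hdd => by
    by_contra hne
    exact hc d hd hne hdd

theorem not_dvd_B (h : Config A B) {r : ℕ} (hr : r.Prime) (hd : r ∣ Nat.card A) :
    ¬ r ∣ Nat.card B := fun hb => hr.ne_one (Nat.eq_one_of_dvd_coprimes h.cop hd hb)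

theorem prime_dvd_or (h : Config A B) {r : ℕ} (hr : r.Prime) (hd : r ∣ Nat.card G) :
    r ∣ Nat.card A ∨ r ∣ Nat.card B := hr.dvd_mul.mp (h.card_eq ▸ hd)

theorem card_pPart_eq (h : Config A B) {r : ℕ} (hr : r.Prime) (hd : r ∣ Nat.card A) :
    Nat.card (pPart A r) = r ^ (Nat.card G).factorization r := by
  haveI := Fact.mk hr
  rw [card_pPart h.nilA r, h.card_eq, Nat.factorization_mul Nat.card_pos.ne' Nat.card_pos.ne',
    Finsupp.add_apply, Nat.factorization_eq_zero_of_not_dvd (h.not_dvd_B hr hd), add_zero]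

/-- Sylow subgroups from the two factors do not generate a proper subgroup. -/
theorem sup_pPart_eq_top (h : Config A B) {p q : ℕ} (hp : p.Prime) (hq : q.Prime)
    (hpA : p ∣ Nat.card A) (hqB : q ∣ Nat.card B)
    (hsol : pPart A p ⊔ pPart B q ≠ ⊤ → Group.IsSolvable (pPart A p ⊔ pPart B q : Subgroup G)) :
    pPart A p ⊔ pPart B q = ⊤ := by
  by_contra htop
  haveI := Fact.mk hp
  haveI := Fact.mk hq
  have hne : p ≠ q := fun e => h.not_dvd_B hp hpA (e ▸ hqB)
  have hset := mul_eq_of_solvable h.fac (le_normalizer_pPart A p) (le_normalizer_pPart B q) hne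
    (h.card_pPart_eq hp hpA) (h.symm.card_pPart_eq hq hqB) (hsol htop) le_sup_left le_sup_right
  obtain ⟨N, hN, hNt, hle⟩ := Products.exists_normal_of_permutable (pPart A p) (pPart B q)
    (pPart_ne_bot h.nilB hqB) (fun x => by
      obtain ⟨c, hc1, hc2⟩ := exists_conj_pair h.fac (le_normalizer_pPart A p)
        (le_normalizer_pPart B q) 1 x
      rw [Coprime.conj_one_smul] at hc1
      refine ⟨MulAut.conj c • (pPart A p ⊔ pPart B q), fun e => htop ?_, ?_⟩
      · refine Coprime.eq_of_le_of_card_le le_top ?_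
        rw [← Coprime.card_conj_smul c (pPart A p ⊔ pPart B q), e]
      · rw [Subgroup.coe_pointwise_smul, hset, smul_mul', ← Subgroup.coe_pointwise_smul,
          ← Subgroup.coe_pointwise_smul, ← hc1, ← hc2])
  have hN0 : N = ⊥ := (h.simple N hN).resolve_right hNt
  rcases hle with hle | hle
  · exact pPart_ne_bot h.nilA hpA (le_bot_iff.mp (hN0 ▸ hle))
  · exact pPart_ne_bot h.nilB hqB (le_bot_iff.mp (hN0 ▸ hle))

theorem factor_normalizer (h : Config A B) {A0 B0 : Subgroup G}
    (hA0 : A ≤ Subgroup.normalizer (A0 : Set G)) (hB0 : B ≤ Subgroup.normalizer (B0 : Set G)) :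
    ∀ g ∈ Subgroup.normalizer ((A0 ⊔ B0 : Subgroup G) : Set G),
      ∃ a ∈ A ⊓ Subgroup.normalizer ((A0 ⊔ B0 : Subgroup G) : Set G),
      ∃ b ∈ B ⊓ Subgroup.normalizer ((A0 ⊔ B0 : Subgroup G) : Set G), g = a * b := by
  intro g hg
  obtain ⟨a, ha, b, hb, rfl⟩ := h.fac g
  set H := A0 ⊔ B0 with hH
  have e : MulAut.conj a • MulAut.conj b • H = H := by
    rw [← Coprime.conj_mul_smul]; exact Coprime.conj_smul_eq_of_mem_normalizer hg
  have e' : MulAut.conj b • H = MulAut.conj a⁻¹ • H := by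
    conv_rhs => rw [← e, ← Coprime.conj_mul_smul, inv_mul_cancel, Coprime.conj_one_smul]
  have h1 : A0 ≤ MulAut.conj b • H := by
    rw [e', ← Coprime.conj_smul_eq_of_mem_normalizer (hA0 (inv_mem ha))]
    exact Subgroup.pointwise_smul_le_pointwise_smul_iff.mpr le_sup_left
  have h2 : B0 ≤ MulAut.conj b • H := by
    rw [← Coprime.conj_smul_eq_of_mem_normalizer (hB0 hb)]
    exact Subgroup.pointwise_smul_le_pointwise_smul_iff.mpr le_sup_right
  have hHb : H ≤ MulAut.conj b • H := sup_le h1 h2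
  have hfix : MulAut.conj b • H = H :=
    (Coprime.eq_of_le_of_card_le hHb (Coprime.card_conj_smul b H).le).symm
  have hbN := Coprime.mem_normalizer_of_conj_smul_eq hfix
  exact ⟨a, ⟨ha, by simpa [mul_assoc] using mul_mem hg (inv_mem hbN)⟩, b, ⟨hb, hbN⟩, rfl⟩

/-- The `r`-core of a subgroup, as a subgroup of `G`. -/
theorem core_le_inter (h : Config A B) {K : Subgroup G}
    (hf : ∀ k ∈ K, ∃ a ∈ A ⊓ K, ∃ b ∈ B ⊓ K, k = a * b) {O : Subgroup G} (hOK : O ≤ K)
    (hKO : K ≤ Subgroup.normalizer (O : Set G))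
    {r : ℕ} (hr : r.Prime) (hrA : r ∣ Nat.card A) (hO : IsPGroup r O) : O ≤ A := by
  haveI := Fact.mk hr
  obtain ⟨n, hn⟩ := IsPGroup.iff_card.mp hO
  refine (le_of_normalized (Y := A ⊓ K) (card_of_factor h.cop hf) inf_le_right hOK ?_
    (Or.inl (inf_le_right.trans hKO))).trans inf_le_left
  rw [hn]
  exact Nat.Coprime.pow_left _ (hr.coprime_iff_not_dvd.mpr fun hd =>
    h.not_dvd_B hr hrA (hd.trans (Subgroup.card_dvd_of_le inf_le_left)))

/-- The standing property of a pair of factors generating a proper subgroup. -/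
structure IsPair (A B A0 B0 : Subgroup G) : Prop where
  leA : A0 ≤ A
  leB : B0 ≤ B
  neA : A0 ≠ ⊥
  neB : B0 ≠ ⊥
  normA : A ≤ Subgroup.normalizer (A0 : Set G)
  normB : B ≤ Subgroup.normalizer (B0 : Set G)
  proper : A0 ⊔ B0 ≠ ⊤

theorem IsPair.symm {A B A0 B0 : Subgroup G} (h : IsPair A B A0 B0) : IsPair B A B0 A0 :=
  ⟨h.leB, h.leA, h.neB, h.neA, h.normB, h.normA, by rw [sup_comm]; exact h.proper⟩

theorem solvable_of_pair (h : Config A B) {A0 B0 : Subgroup G} (hp : IsPair A B A0 B0) :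
    Group.IsSolvable (Subgroup.normalizer ((A0 ⊔ B0 : Subgroup G) : Set G)) :=
  h.ind _ (h.normalizer_ne_top (fun e => hp.neA (le_bot_iff.mp (e ▸ le_sup_left))) hp.proper)
    (h.factor_normalizer hp.normA hp.normB)

/-- In a maximal pair a core for a prime of `A` forces the other primes of `A` into `A0`. -/
theorem coPart_le_of_core (h : Config A B) {A0 B0 : Subgroup G} (hp : IsPair A B A0 B0)
    (hmax : ∀ A1 B1, IsPair A B A1 B1 → A0 ≤ A1 → B0 ≤ B1 → A1 = A0)
    {r : ℕ} [Fact r.Prime] (hrA : r ∣ Nat.card A)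
    (hcore : Cfsg.pCore r (A0 ⊔ B0 : Subgroup G) ≠ ⊥) :
    coPart A r ≤ A0 ∧ (Cfsg.pCore r (A0 ⊔ B0 : Subgroup G)).map (A0 ⊔ B0).subtype ≤ A := by
  set H := A0 ⊔ B0 with hH
  set O := (Cfsg.pCore r H).map H.subtype with hO
  have hO0 : O ≠ ⊥ := fun e =>
    hcore ((Subgroup.map_eq_bot_iff_of_injective _ H.subtype_injective).mp e)
  have hXO : Subgroup.normalizer (H : Set G) ≤ Subgroup.normalizer (O : Set G) :=
    Cores.normalizer_le_normalizer_map_subtype H (Cfsg.pCore r H)
  have hOp : IsPGroup r O := (Cores.pCore_isPGroup r H).map H.subtype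
  have hOA : O ≤ A := h.core_le_inter (h.factor_normalizer hp.normA hp.normB)
    ((Subgroup.map_subtype_le _).trans Subgroup.le_normalizer) hXO Fact.out hrA hOp
  have hOP : O ≤ pPart A r := fun x hx => by
    obtain ⟨k, hk⟩ := hOp ⟨x, hx⟩
    exact mem_pPart (k := k) (hOA hx) (by simpa [Subtype.ext_iff] using hk)
  have hco : coPart A r ≤ Subgroup.normalizer (O : Set G) :=
    ((coPart_le_centralizer_pPart h.nilA r).trans (Subgroup.centralizer_le hOP)).trans
      (Subgroup.centralizer_le_normalizer _)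
  refine ⟨?_, hOA⟩
  have hpair : IsPair A B (A0 ⊔ coPart A r) B0 :=
    { leA := sup_le hp.leA (coPart_le A r)
      leB := hp.leB
      neA := fun e => hp.neA (le_bot_iff.mp (e ▸ le_sup_left))
      neB := hp.neB
      normA := fun a ha => Subgroup.mem_normalizer_iff.mpr fun x => by
        have e : MulAut.conj a • (A0 ⊔ coPart A r) = A0 ⊔ coPart A r := by
          rw [Subgroup.smul_sup, Coprime.conj_smul_eq_of_mem_normalizer (hp.normA ha),
            Coprime.conj_smul_eq_of_mem_normalizer (le_normalizer_coPart A r ha)]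
        exact Subgroup.mem_normalizer_iff.mp (Coprime.mem_normalizer_of_conj_smul_eq e) x
      normB := hp.normB
      proper := fun e => h.normalizer_ne_top hO0 (fun e' => h.A_ne_top (top_le_iff.mp (e' ▸ hOA)))
        (top_le_iff.mp (e ▸ sup_le (sup_le ((le_sup_left.trans Subgroup.le_normalizer).trans hXO)
          hco) ((le_sup_right.trans Subgroup.le_normalizer).trans hXO))) }
  exact (le_sup_right).trans (hmax _ _ hpair le_sup_left le_rfl).le

theorem no_pair (h : Config A B) (A0 B0 : Subgroup G) : ¬ IsPair A B A0 B0 := by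
  intro hp
  -- choose a maximal pair
  haveI : Nonempty {x : Subgroup G × Subgroup G // IsPair A B x.1 x.2} := ⟨⟨(A0, B0), hp⟩⟩
  obtain ⟨⟨⟨A0, B0⟩, hp⟩, hmax⟩ := Finite.exists_max
    (fun x : {x : Subgroup G × Subgroup G // IsPair A B x.1 x.2} =>
      Nat.card x.1.1 + Nat.card x.1.2)
  have hmA : ∀ A1 B1, IsPair A B A1 B1 → A0 ≤ A1 → B0 ≤ B1 → A1 = A0 := by
    intro A1 B1 h1 ha hb
    have := hmax ⟨(A1, B1), h1⟩
    have hb' : Nat.card B0 ≤ Nat.card B1 := Nat.le_of_dvd Nat.card_pos (Subgroup.card_dvd_of_le hb)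
    simp only at this
    exact (Coprime.eq_of_le_of_card_le ha (by omega)).symm
  have hmB : ∀ B1 A1, IsPair B A B1 A1 → B0 ≤ B1 → A0 ≤ A1 → B1 = B0 := by
    intro B1 A1 h1 hb ha
    have := hmax ⟨(A1, B1), h1.symm⟩
    have ha' : Nat.card A0 ≤ Nat.card A1 := Nat.le_of_dvd Nat.card_pos (Subgroup.card_dvd_of_le ha)
    simp only at this
    exact (Coprime.eq_of_le_of_card_le hb (by omega)).symm
  set H := A0 ⊔ B0 with hH
  haveI hHs : Group.IsSolvable H :=
    Coprime.isSolvable_of_le Subgroup.le_normalizer (h.solvable_of_pair hp)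
  haveI : Nontrivial H := (Subgroup.nontrivial_iff_ne_bot H).mpr
    fun e => hp.neA (le_bot_iff.mp (e ▸ le_sup_left))
  have kA : ∀ (r : ℕ) [Fact r.Prime], r ∣ Nat.card A → Cfsg.pCore r H ≠ ⊥ →
      coPart A r ≤ A0 ∧ (Cfsg.pCore r H).map H.subtype ≤ A :=
    fun r _ hr hc => h.coPart_le_of_core hp hmA hr hc
  have kB : ∀ (r : ℕ) [Fact r.Prime], r ∣ Nat.card B → Cfsg.pCore r H ≠ ⊥ →
      coPart B r ≤ B0 ∧ (Cfsg.pCore r H).map H.subtype ≤ B := by
    intro r _ hr hc
    have hsym : B0 ⊔ A0 = H := sup_comm _ _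
    have := h.symm.coPart_le_of_core hp.symm hmB (r := r) hr (by rw [hsym]; exact hc)
    rw [hsym] at this
    exact this
  -- no factor lies in a proper pair subgroup
  have fullA : ∀ {A B A0 B0 : Subgroup G}, Config A B → IsPair A B A0 B0 → ¬ A ≤ A0 := by
    intro A B A0 B0 h hp hA
    have hcl : Subgroup.normalClosure (B0 : Set G) ≤ A0 ⊔ B0 := by
      refine le_trans ?_ (Subgroup.normalCore_le _)
      refine Subgroup.normalClosure_le_normal fun x hx g => ?_
      obtain ⟨a, ha, b, hb, rfl⟩ := h.fac g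
      have h1 : b * x * b⁻¹ ∈ B0 := (Subgroup.mem_normalizer_iff.mp (hp.normB hb) x).mp hx
      have h2 := mul_mem (mul_mem (Subgroup.mem_sup_left (T := B0) (hA ha))
        (Subgroup.mem_sup_right (S := A0) h1)) (inv_mem (Subgroup.mem_sup_left (T := B0) (hA ha)))
      simpa [mul_assoc] using h2
    rcases h.simple _ Subgroup.normalClosure_normal with e | e
    · exact hp.neB (le_bot_iff.mp (e ▸ Subgroup.le_normalClosure))
    · exact hp.proper (top_le_iff.mp (e ▸ hcl))
  -- a prime with non-trivial core exists, and at most one on each side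
  have uniq : ∀ (r s : ℕ) [Fact r.Prime] [Fact s.Prime], r ∣ Nat.card A → s ∣ Nat.card A →
      Cfsg.pCore r H ≠ ⊥ → Cfsg.pCore s H ≠ ⊥ → r = s := by
    intro r s _ _ hr hs hrc hsc
    by_contra hne
    exact fullA h hp ((le_coPart_sup_coPart h.nilA hne).trans (sup_le (kA r hr hrc).1 (kA s hs hsc).1))
  have uniqB : ∀ (r s : ℕ) [Fact r.Prime] [Fact s.Prime], r ∣ Nat.card B → s ∣ Nat.card B →
      Cfsg.pCore r H ≠ ⊥ → Cfsg.pCore s H ≠ ⊥ → r = s := by
    intro r s _ _ hr hs hrc hsc
    by_contra hne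
    exact fullA h.symm hp.symm
      ((le_coPart_sup_coPart h.nilB hne).trans (sup_le (kB r hr hrc).1 (kB s hs hsc).1))
  -- if the only core belongs to one side, that side is a p-group
  have single : ∀ {X : Subgroup G} {X0 : Subgroup G} (p : ℕ) [Fact p.Prime],
      Group.IsNilpotent X → X0 ≤ H → coPart X p ≤ X0 → (Cfsg.pCore p H).map H.subtype ≤ X →
      (∀ r : ℕ, r.Prime → Cfsg.pCore r H ≠ ⊥ → r = p) → IsPGroup p X := by
    intro X X0 p _ hX hX0 hco hOX hall
    refine coPart_eq_bot_iff hX ?_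
    have hF : Cfsg.fittingSubgroup H ≤ Cfsg.pCore p H := by
      refine Cores.fittingSubgroup_le_of_pCore_le fun r hr => ?_
      by_cases hc : Cfsg.pCore r H = ⊥
      · rw [hc]; exact bot_le
      · rw [hall r hr hc]
    have hcoH : coPart X p ≤ H := hco.trans hX0
    have hP : coPart X p ≤ pPart X p := by
      intro x hx
      have hxc : (⟨x, hcoH hx⟩ : H) ∈ Subgroup.centralizer (Cfsg.fittingSubgroup H : Set H) := by
        rw [Subgroup.mem_centralizer_iff]
        intro y hy
        obtain ⟨k, hk⟩ := Cores.pCore_isPGroup p H ⟨y, hF hy⟩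
        have hyX : (y : G) ∈ pPart X p := mem_pPart (k := k) (hOX ⟨y, hF hy, rfl⟩)
          (by simpa [Subtype.ext_iff] using hk)
        exact Subtype.ext (Subgroup.mem_centralizer_iff.mp
          (coPart_le_centralizer_pPart hX p hx) _ hyX)
      have := hF (Cores.centralizer_fittingSubgroup_le hHs hxc)
      obtain ⟨k, hk⟩ := Cores.pCore_isPGroup p H ⟨_, this⟩
      exact mem_pPart (k := k) (coPart_le X p hx) (by simpa [Subtype.ext_iff] using hk)
    rw [coPart, Subgroup.closure_eq_bot_iff]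
    rintro x ⟨hx, q, k, hq, hne, hk⟩
    have hxp : x ∈ pPart X p := hP (Subgroup.subset_closure ⟨hx, q, k, hq, hne, hk⟩)
    obtain ⟨j, hj⟩ := isPGroup_pPart hX p ⟨x, hxp⟩
    have h1 : orderOf x ∣ q ^ k := orderOf_dvd_of_pow_eq_one hk
    have h2 : orderOf x ∣ p ^ j := orderOf_dvd_of_pow_eq_one (by simpa [Subtype.ext_iff] using hj)
    exact orderOf_eq_one_iff.mp (Nat.eq_one_of_dvd_coprimes
      (Nat.Coprime.pow _ _ ((Nat.coprime_primes hq Fact.out).mpr hne)) h1 h2)
  have hdvd : ∀ r : ℕ, r.Prime → Cfsg.pCore r H ≠ ⊥ → r ∣ Nat.card A ∨ r ∣ Nat.card B := by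
    intro r hr hc
    haveI := Fact.mk hr
    refine h.prime_dvd_or hr (dvd_trans ?_ (Subgroup.card_subgroup_dvd_card H))
    obtain ⟨n, hn⟩ := IsPGroup.iff_card.mp (Cores.pCore_isPGroup r H)
    refine dvd_trans ?_ (Subgroup.card_subgroup_dvd_card (Cfsg.pCore r H))
    rw [hn]
    refine dvd_pow_self r fun h0 => hc (Subgroup.card_eq_one.mp ?_)
    rw [hn, h0, pow_zero]
  obtain ⟨p0, hp0, hc0⟩ := Products.exists_normal_pSubgroup hHs
  by_cases hA : ∃ p, p.Prime ∧ p ∣ Nat.card A ∧ Cfsg.pCore p H ≠ ⊥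
  · obtain ⟨p, hpp, hpA, hpc⟩ := hA
    haveI := Fact.mk hpp
    by_cases hB : ∃ q, q.Prime ∧ q ∣ Nat.card B ∧ Cfsg.pCore q H ≠ ⊥
    · obtain ⟨q, hqq, hqB, hqc⟩ := hB
      haveI := Fact.mk hqq
      obtain ⟨r, hr, hrp, hrA⟩ := h.exists_other_prime p
      obtain ⟨s, hs, hsq, hsB⟩ := h.symm.exists_other_prime q
      have hle : pPart A r ⊔ pPart B s ≤ H := sup_le
        ((pPart_le_coPart A hr hrp).trans ((kA p hpA hpc).1.trans le_sup_left))
        ((pPart_le_coPart B hs hsq).trans ((kB q hqB hqc).1.trans le_sup_right))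
      exact hp.proper (top_le_iff.mp
        (h.sup_pPart_eq_top hr hs hrA hsB (fun _ => Coprime.isSolvable_of_le hle hHs) ▸ hle))
    · refine h.not_isPGroup (p := p) (single p h.nilA le_sup_left (kA p hpA hpc).1
        (kA p hpA hpc).2 fun r hr hc => ?_)
      haveI := Fact.mk hr
      exact uniq r p ((hdvd r hr hc).resolve_right fun hb => hB ⟨r, hr, hb, hc⟩) hpA hc hpc
  · have hqB : p0 ∣ Nat.card B := (hdvd p0 hp0 hc0).resolve_left fun ha => hA ⟨p0, hp0, ha, hc0⟩
    haveI := Fact.mk hp0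
    refine h.symm.not_isPGroup (p := p0) (single p0 h.nilB le_sup_right (kB p0 hqB hc0).1
      (kB p0 hqB hc0).2 fun r hr hc => ?_)
    haveI := Fact.mk hr
    exact uniqB r p0 ((hdvd r hr hc).resolve_left fun ha => hA ⟨r, hr, ha, hc⟩) hqB hc hc0

/-- No proper subgroup meets the classes of central elements of both factors. -/
theorem eq_top_of_cent (h : Config A B) {z y g k : G} (hz : IsCent A z) (hy : IsCent B y)
    {K : Subgroup G} (h1 : g * z * g⁻¹ ∈ K) (h2 : k * y * k⁻¹ ∈ K) : K = ⊤ := by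
  obtain ⟨c, hc1, hc2⟩ := exists_conj_pair h.fac hz.le_normalizer_zpowers
    hy.le_normalizer_zpowers g k
  have htop : Subgroup.zpowers z ⊔ Subgroup.zpowers y = ⊤ := by
    by_contra hne
    exact h.no_pair _ _ ⟨Subgroup.zpowers_le.mpr hz.1, Subgroup.zpowers_le.mpr hy.1,
      hz.zpowers_ne_bot, hy.zpowers_ne_bot, hz.le_normalizer_zpowers, hy.le_normalizer_zpowers, hne⟩
  have hg : MulAut.conj g • Subgroup.zpowers z ≤ K := by
    intro x hx
    rw [Coprime.mem_conj_smul] at hx
    obtain ⟨n, hn⟩ := Subgroup.mem_zpowers_iff.mp hx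
    have : x = (g * z * g⁻¹) ^ n := by rw [conj_zpow, hn]; group
    exact this ▸ zpow_mem h1 n
  have hk : MulAut.conj k • Subgroup.zpowers y ≤ K := by
    intro x hx
    rw [Coprime.mem_conj_smul] at hx
    obtain ⟨n, hn⟩ := Subgroup.mem_zpowers_iff.mp hx
    have : x = (k * y * k⁻¹) ^ n := by rw [conj_zpow, hn]; group
    exact this ▸ zpow_mem h2 n
  have hle : MulAut.conj c • (Subgroup.zpowers z ⊔ Subgroup.zpowers y) ≤ K := by
    rw [Subgroup.smul_sup, ← hc1, ← hc2]
    exact sup_le hg hk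
  refine Coprime.eq_of_le_of_card_le le_top ?_
  rw [← htop, ← Coprime.card_conj_smul c]
  exact Nat.le_of_dvd Nat.card_pos (Subgroup.card_dvd_of_le hle)

/-- Central elements of `A` normalize no non-trivial `q`-subgroup, `q` a prime of `B`. -/
theorem eq_bot_of_normalized (h : Config A B) {z : G} (hz : IsCent A z) {q : ℕ} [Fact q.Prime]
    (hqB : q ∣ Nat.card B) {R : Subgroup G} (hR : IsPGroup q R)
    (hzR : z ∈ Subgroup.normalizer (R : Set G)) : R = ⊥ := by
  by_contra hne
  set Q := Sylow.ofCard _ (h.symm.card_pPart_eq Fact.out hqB) with hQ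
  obtain ⟨P, hP⟩ := hR.exists_le_sylow
  obtain ⟨g, hg⟩ := MulAction.exists_smul_eq G Q P
  have hRg : R ≤ MulAut.conj g • pPart B q := by
    refine hP.trans ?_
    rw [← hg, Sylow.coe_subgroup_smul, hQ, Sylow.coe_ofCard]
  obtain ⟨y, hy, -⟩ := h.symm.exists_isCent Fact.out hqB
  have hyR : g * y * g⁻¹ ∈ Subgroup.normalizer (R : Set G) := by
    refine Subgroup.centralizer_le_normalizer _ (Subgroup.mem_centralizer_iff.mpr fun x hx => ?_)
    have h1 : g⁻¹ * x * g ∈ B := pPart_le B q (Coprime.mem_conj_smul.mp (hRg hx))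
    have h2 := hy.2.2 _ h1
    calc x * (g * y * g⁻¹) = g * ((g⁻¹ * x * g) * y) * g⁻¹ := by group
      _ = g * (y * (g⁻¹ * x * g)) * g⁻¹ := by rw [h2]
      _ = (g * y * g⁻¹) * x := by group
  refine h.normalizer_ne_top hne (fun e => ?_) (h.eq_top_of_cent (g := 1) hz hy (by simpa using hzR) hyR)
  refine h.B_ne_top (Coprime.eq_of_le_of_card_le le_top ?_)
  rw [← e]
  exact (Nat.le_of_dvd Nat.card_pos (Subgroup.card_dvd_of_le (hRg))).trans
    ((Coprime.card_conj_smul g _).le.trans (Nat.le_of_dvd Nat.card_pos (Subgroup.card_dvd_of_le (pPart_le B q))))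

/-- An element without primes of `B` normalizing `A` lies in `A`. -/
theorem mem_of_coprime (h : Config A B) {x : G} (hx : (orderOf x).Coprime (Nat.card B))
    (hn : x ∈ Subgroup.normalizer (A : Set G)) : x ∈ A :=
  le_of_normalized (K := Subgroup.normalizer (A : Set G))
    (n := Nat.card (B ⊓ Subgroup.normalizer (A : Set G) : Subgroup G))
    (by
      have := card_of_factor h.cop (factor_of_le h.fac (Subgroup.le_normalizer (H := A)))
      rwa [inf_of_le_left Subgroup.le_normalizer] at this)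
    Subgroup.le_normalizer (Subgroup.zpowers_le.mpr hn)
    (by
      rw [Nat.card_zpowers]
      exact hx.coprime_dvd_right (Subgroup.card_dvd_of_le inf_le_left))
    (Or.inr (Subgroup.zpowers_le.mpr hn)) (Subgroup.mem_zpowers x)

theorem centralizer_eq (h : Config A B) {z : G} (hz : IsCent A z) :
    Subgroup.centralizer ({z} : Set G) = A := by
  have hno : ∀ x ∈ Subgroup.centralizer ({z} : Set G), (orderOf x).Coprime (Nat.card B) := by
    intro x hx
    by_contra hc
    obtain ⟨q, hq, h1, h2⟩ := Nat.Prime.not_coprime_iff_dvd.mp hc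
    haveI := Fact.mk hq
    have ho := exists_prime_dvd_orderOf_pow h1
    have hbot := h.eq_bot_of_normalized hz h2 (R := Subgroup.zpowers (x ^ (orderOf x / q)))
      (IsPGroup.of_card (n := 1) (by rw [Nat.card_zpowers, ho, pow_one]))
      (by
        refine Subgroup.centralizer_le_normalizer _ ?_
        refine Subgroup.mem_centralizer_iff.mpr fun w hw => ?_
        obtain ⟨n, rfl⟩ := Subgroup.mem_zpowers_iff.mp hw
        exact (((show Commute x z from Subgroup.mem_centralizer_singleton_iff.mp hx).pow_left _).zpow_left n).eq)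
    rw [Subgroup.zpowers_eq_bot] at hbot
    rw [hbot, orderOf_one] at ho
    exact hq.ne_one ho.symm
  refine (Coprime.eq_of_le_of_card_le hz.le_centralizer ?_).symm
  refine Nat.le_of_dvd Nat.card_pos ?_
  have hcop : (Nat.card (Subgroup.centralizer ({z} : Set G))).Coprime (Nat.card B) := by
    refine Nat.coprime_of_dvd fun q hq h1 h2 => ?_
    haveI := Fact.mk hq
    obtain ⟨c, hc⟩ := exists_prime_orderOf_dvd_card' q h1
    have := hno c c.2
    rw [Subgroup.orderOf_coe, hc] at this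
    exact hq.coprime_iff_not_dvd.mp this h2
  exact hcop.dvd_of_dvd_mul_right (h.card_eq ▸ Subgroup.card_subgroup_dvd_card _)

/-- Fusion of a central element of prime order. -/
theorem mem_normalizer_coPart (h : Config A B) {z g : G} {r : ℕ} [Fact r.Prime]
    (hz : IsCent A z) (ho : orderOf z = r) (hg : g * z * g⁻¹ ∈ A) :
    g ∈ Subgroup.normalizer (coPart A r : Set G) := by
  have hp : g * z * g⁻¹ ∈ pPart A r :=
    mem_pPart (k := 1) hg (by rw [pow_one, conj_pow, ← ho, pow_orderOf_eq_one]; group)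
  have hle : coPart A r ≤ MulAut.conj g • coPart A r := by
    conv_lhs => rw [coPart]
    rw [Subgroup.closure_le]
    rintro x ⟨hx, q, k, hq, hne, hk⟩
    have hxz : g⁻¹ * x * g ∈ A := by
      rw [← h.centralizer_eq hz, Subgroup.mem_centralizer_singleton_iff]
      have hc : g * z * g⁻¹ * x = x * (g * z * g⁻¹) :=
        (Subgroup.mem_centralizer_iff.mp (coPart_le_centralizer_pPart h.nilA r
          (Subgroup.subset_closure ⟨hx, q, k, hq, hne, hk⟩)) _ hp)
      calc g⁻¹ * x * g * z = g⁻¹ * (x * (g * z * g⁻¹)) * g := by group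
        _ = g⁻¹ * (g * z * g⁻¹ * x) * g := by rw [hc]
        _ = z * (g⁻¹ * x * g) := by group
    rw [SetLike.mem_coe, Coprime.mem_conj_smul]
    refine Subgroup.subset_closure ⟨hxz, q, k, hq, hne, ?_⟩
    have : (g⁻¹ * x * g⁻¹⁻¹) ^ q ^ k = 1 := by rw [conj_pow, hk]; group
    simpa using this
  exact Coprime.mem_normalizer_of_conj_smul_eq
    (Coprime.eq_of_le_of_card_le hle (Coprime.card_conj_smul g _).le).symm

/-- The key consequence of solvability for a factorized subgroup meeting the centre of `A`. -/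
theorem conj_mem_of_factor (h : Config A B) {K : Subgroup G} (hK : K ≠ ⊤)
    (hf : ∀ k ∈ K, ∃ a ∈ A ⊓ K, ∃ b ∈ B ⊓ K, k = a * b) {z : G} (hz : IsCent A z) (hzK : z ∈ K)
    {g : G} (hg : g ∈ K) : g * z * g⁻¹ ∈ A := by
  haveI hKs : Group.IsSolvable K := h.ind K hK hf
  haveI : Nontrivial K := ⟨⟨⟨z, hzK⟩, 1, fun e => hz.2.1 (congrArg Subtype.val e)⟩⟩
  have hF : Cfsg.fittingSubgroup K ≤ A.subgroupOf K := by
    refine Cores.fittingSubgroup_le_of_pCore_le fun r hr => ?_
    haveI := Fact.mk hr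
    by_cases hc : Cfsg.pCore r K = ⊥
    · rw [hc]; exact bot_le
    have hKO : K ≤ Subgroup.normalizer ((Cfsg.pCore r K).map K.subtype : Set G) :=
      Subgroup.le_normalizer.trans (Cores.normalizer_le_normalizer_map_subtype K (Cfsg.pCore r K))
    have hd : r ∣ Nat.card A ∨ r ∣ Nat.card B := by
      obtain ⟨n, hn⟩ := IsPGroup.iff_card.mp (Cores.pCore_isPGroup r K)
      refine h.prime_dvd_or hr (dvd_trans (dvd_trans ?_ (Subgroup.card_subgroup_dvd_card (Cfsg.pCore r K))) (Subgroup.card_subgroup_dvd_card K))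
      rw [hn]
      refine dvd_pow_self r fun h0 => hc (Subgroup.card_eq_one.mp ?_)
      rw [hn, h0, pow_zero]
    rcases hd with hd | hd
    · intro x hx
      exact Subgroup.mem_subgroupOf.mpr (h.core_le_inter hf (Subgroup.map_subtype_le _) hKO hr hd
        ((Cores.pCore_isPGroup r K).map K.subtype) ⟨x, hx, rfl⟩)
    · exact absurd ((Subgroup.map_eq_bot_iff_of_injective _ K.subtype_injective).mp
        (h.eq_bot_of_normalized hz hd ((Cores.pCore_isPGroup r K).map K.subtype) (hKO hzK))) hc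
  have hzF : (⟨z, hzK⟩ : K) ∈ Cfsg.fittingSubgroup K := by
    refine Cores.centralizer_fittingSubgroup_le hKs (Subgroup.mem_centralizer_iff.mpr fun x hx => ?_)
    exact Subtype.ext (hz.2.2 _ (Subgroup.mem_subgroupOf.mp (hF hx)))
  exact Subgroup.mem_subgroupOf.mp (hF ((Cfsg.fittingSubgroup K).normal_of_characteristic.conj_mem _ hzF ⟨g, hg⟩))

theorem le_normalizer_of_le (h : Config A B) {K : Subgroup G} (hK : K ≠ ⊤) (hAK : A ≤ K) :
    K ≤ Subgroup.normalizer (A : Set G) := by
  intro g hg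
  obtain ⟨r, hr, hrA⟩ := h.exists_prime
  haveI := Fact.mk hr
  obtain ⟨s, hs, hsr, hsA⟩ := h.exists_other_prime r
  haveI := Fact.mk hs
  have key : ∀ (t : ℕ) [Fact t.Prime], t ∣ Nat.card A →
      MulAut.conj g • coPart A t = coPart A t := by
    intro t _ ht
    obtain ⟨z, hz, ho⟩ := h.exists_isCent Fact.out ht
    exact Coprime.conj_smul_eq_of_mem_normalizer (h.mem_normalizer_coPart hz ho
      (h.conj_mem_of_factor hK (factor_of_le h.fac hAK) hz (hAK hz.1) hg))
  have hsup : coPart A r ⊔ coPart A s = A :=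
    le_antisymm (sup_le (coPart_le A r) (coPart_le A s)) (le_coPart_sup_coPart h.nilA hsr.symm)
  refine Coprime.mem_normalizer_of_conj_smul_eq ?_
  conv_lhs => rw [← hsup]
  rw [Subgroup.smul_sup, key r hrA, key s hsA, hsup]

/-- Fusion of central elements is controlled by the normalizer. -/
theorem mem_normalizer_of_conj_mem (h : Config A B) {z g : G} (hz : IsCent A z)
    (hg : g * z * g⁻¹ ∈ A) : g ∈ Subgroup.normalizer (A : Set G) := by
  obtain ⟨r, hr, hrd⟩ := Nat.exists_prime_and_dvd (fun e => hz.2.1 (orderOf_eq_one_iff.mp e))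
  haveI := Fact.mk hr
  set n := orderOf z / r with hn
  have ho : orderOf (z ^ n) = r := exists_prime_dvd_orderOf_pow hrd
  have hw : IsCent A (z ^ n) := ⟨pow_mem hz.1 _, fun e => hr.ne_one (by rw [← ho, e, orderOf_one]),
    fun x hx => ((show Commute x z from hz.2.2 x hx).pow_right n).eq⟩
  have hgw : g * z ^ n * g⁻¹ ∈ A := by rw [← conj_pow]; exact pow_mem hg n
  obtain ⟨s, hs, hsr, hsA⟩ := h.exists_other_prime r
  haveI := Fact.mk hs
  have hne : coPart A r ≠ ⊥ := fun e =>
    pPart_ne_bot h.nilA hsA (le_bot_iff.mp (e ▸ pPart_le_coPart A hs hsr))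
  exact h.le_normalizer_of_le
    (h.normalizer_ne_top hne fun e => h.A_ne_top (top_le_iff.mp (e ▸ coPart_le A r)))
    (le_normalizer_coPart A r) (h.mem_normalizer_coPart hw ho hgw)

omit [Finite G] in
theorem factor_centralizer (h : Config A B) {e : G}
    (he : e ∈ A) (heL : e ∈ Subgroup.normalizer (B : Set G)) :
    ∀ g ∈ Subgroup.centralizer ({e} : Set G),
      ∃ a ∈ A ⊓ Subgroup.centralizer ({e} : Set G),
      ∃ b ∈ B ⊓ Subgroup.centralizer ({e} : Set G), g = a * b := by
  intro g hg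
  obtain ⟨a, ha, b, hb, rfl⟩ := h.fac g
  have hc : a * b * e = e * (a * b) := Subgroup.mem_centralizer_singleton_iff.mp hg
  -- `b e b⁻¹ e⁻¹` lies in both factors
  have h1 : b * e * b⁻¹ * e⁻¹ ∈ A := by
    have : b * e * b⁻¹ = a⁻¹ * e * a := by
      calc b * e * b⁻¹ = a⁻¹ * (a * b * e) * b⁻¹ := by group
        _ = a⁻¹ * (e * (a * b)) * b⁻¹ := by rw [hc]
        _ = a⁻¹ * e * a := by group
    rw [this]
    exact mul_mem (mul_mem (mul_mem (inv_mem ha) he) ha) (inv_mem he)
  have h2 : b * e * b⁻¹ * e⁻¹ ∈ B := by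
    have h3 : e * b⁻¹ * e⁻¹ ∈ B := (Subgroup.mem_normalizer_iff.mp heL _).mp (inv_mem hb)
    simpa [mul_assoc] using mul_mem hb h3
  have h3 : b * e * b⁻¹ * e⁻¹ = 1 := Coprime.eq_one_of_mem_of_mem h.cop h1 h2
  have hbe : b * e = e * b := by
    calc b * e = (b * e * b⁻¹ * e⁻¹) * (e * b) := by group
      _ = e * b := by rw [h3, one_mul]
  have hbC : b ∈ Subgroup.centralizer ({e} : Set G) := Subgroup.mem_centralizer_singleton_iff.mpr hbe
  exact ⟨a, ⟨ha, by simpa [mul_assoc] using mul_mem hg (inv_mem hbC)⟩, b, ⟨hb, hbC⟩, rfl⟩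

theorem centralizer_le (h : Config A B) {e : G} (he : e ∈ A)
    (heL : e ∈ Subgroup.normalizer (B : Set G)) (he1 : e ≠ 1) :
    Subgroup.centralizer ({e} : Set G) ≤ Subgroup.normalizer (A : Set G) := by
  intro g hg
  obtain ⟨r, hr, hrA⟩ := h.exists_prime
  obtain ⟨z, hz, -⟩ := h.exists_isCent hr hrA
  exact h.mem_normalizer_of_conj_mem hz (h.conj_mem_of_factor (h.centralizer_ne_top he1)
    (h.factor_centralizer he heL) hz
    (Subgroup.mem_centralizer_singleton_iff.mpr (hz.2.2 e he).symm) hg)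

/-- An element of `A` centralized by an element of `B`-prime order in `N(A)`. -/
theorem centralizer_le_of_mixed (h : Config A B) {x t : G} {q : ℕ} [Fact q.Prime]
    (hx : x ∈ A) (hx1 : x ≠ 1) (ht : t ∈ Subgroup.normalizer (A : Set G)) (hto : orderOf t = q)
    (hqB : q ∣ Nat.card B) (hxt : x * t = t * x) :
    Subgroup.centralizer ({x} : Set G) ≤ Subgroup.normalizer (A : Set G) := by
  set M := Subgroup.normalizer (A : Set G) with hM
  set D := B ⊓ M with hD
  have hMc : Nat.card M = Nat.card A * Nat.card D := by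
    have := card_of_factor h.cop (factor_of_le h.fac (show A ≤ M from Subgroup.le_normalizer))
    rwa [inf_of_le_left (show A ≤ M from Subgroup.le_normalizer)] at this
  have hDn : Group.IsNilpotent D := by
    haveI := h.nilB
    exact Cores.isNilpotent_of_injective (Subgroup.inclusion (inf_le_left : D ≤ B)) (Subgroup.inclusion_injective _)
  have hfac : Nat.card (pPart D q) = q ^ (Nat.card M).factorization q := by
    rw [card_pPart hDn q, hMc, Nat.factorization_mul Nat.card_pos.ne' Nat.card_pos.ne',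
      Finsupp.add_apply, Nat.factorization_eq_zero_of_not_dvd (h.symm.not_dvd_B Fact.out hqB), zero_add]
  have hPM : pPart D q ≤ M := (pPart_le D q).trans inf_le_right
  have hc' : Nat.card ((pPart D q).subgroupOf M) = q ^ (Nat.card M).factorization q := by
    rw [Nat.card_congr (Subgroup.subgroupOfEquivOfLe hPM).toEquiv, hfac]
  obtain ⟨P, hP⟩ := (IsPGroup.of_card (p := q) (n := 1)
    (G := Subgroup.zpowers (⟨t, ht⟩ : M))
    (by rw [Nat.card_zpowers, ← Subgroup.orderOf_coe, pow_one]; exact hto)).exists_le_sylow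
  obtain ⟨m, hm⟩ := MulAction.exists_smul_eq M P (Sylow.ofCard _ hc')
  have ht' : (m : G) * t * (m : G)⁻¹ ∈ D := by
    have h1 : m * ⟨t, ht⟩ * m⁻¹ ∈ ((m • P : Sylow q M) : Subgroup M) := by
      rw [Sylow.coe_subgroup_smul, Coprime.mem_conj_smul]
      simpa [mul_assoc] using hP (Subgroup.mem_zpowers _)
    rw [hm, Sylow.coe_ofCard] at h1
    exact pPart_le D q (Subgroup.mem_subgroupOf.mp h1)
  set t' := (m : G) * t * (m : G)⁻¹ with ht'def
  set x' := (m : G) * x * (m : G)⁻¹ with hx'def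
  have hx' : x' ∈ A := (Subgroup.mem_normalizer_iff.mp m.2 x).mp hx
  have ht'1 : t' ≠ 1 := fun e => by
    have : t = 1 := by simpa [ht'def] using e
    rw [this, orderOf_one] at hto
    exact (Fact.out : q.Prime).ne_one hto.symm
  have hxL : x' ∈ Subgroup.normalizer (B : Set G) := by
    refine h.symm.centralizer_le ht'.1 ht'.2 ht'1 (Subgroup.mem_centralizer_singleton_iff.mpr ?_)
    calc x' * t' = (m : G) * (x * t) * (m : G)⁻¹ := by rw [ht'def, hx'def]; group
      _ = (m : G) * (t * x) * (m : G)⁻¹ := by rw [hxt]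
      _ = t' * x' := by rw [ht'def, hx'def]; group
  intro g hg
  have h1 : (m : G) * g * (m : G)⁻¹ ∈ M := by
    refine h.centralizer_le hx' hxL (fun e => hx1 (by simpa [hx'def] using e))
      (Subgroup.mem_centralizer_singleton_iff.mpr ?_)
    have hc : g * x = x * g := Subgroup.mem_centralizer_singleton_iff.mp hg
    calc (m : G) * g * (m : G)⁻¹ * x' = (m : G) * (g * x) * (m : G)⁻¹ := by rw [hx'def]; group
      _ = (m : G) * (x * g) * (m : G)⁻¹ := by rw [hc]
      _ = x' * ((m : G) * g * (m : G)⁻¹) := by rw [hx'def]; group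
  simpa [mul_assoc] using mul_mem (mul_mem (inv_mem m.2) h1) m.2

end Config

end Cfsg.Agent.Lib.Solvable.KegelWielandt
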