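import Cfsg.Agent.Lib.Solvable.KegelWielandt.Coprime

/-!
The factors are TI-subgroups, and counting elements gives the contradiction.
-/

set_option autoImplicit false

open Pointwise

namespace Cfsg.Agent.Lib.Solvable.KegelWielandt

open Cfsg.Agent.Lib

namespace Config

variable {G : Type*} [Group G] [Finite G] {A B : Subgroup G}

theorem mem_or_mixed (h : Config A B) {x : G} (hn : x ∈ Subgroup.normalizer (A : Set G)) :
    x ∈ A ∨ ∃ q : ℕ, q.Prime ∧ q ∣ Nat.card B ∧ ∃ n : ℕ, orderOf (x ^ n) = q := by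
  by_cases hc : (orderOf x).Coprime (Nat.card B)
  · exact Or.inl (h.mem_of_coprime hc hn)
  · obtain ⟨q, hq, h1, h2⟩ := Nat.Prime.not_coprime_iff_dvd.mp hc
    exact Or.inr ⟨q, hq, h2, _, exists_prime_dvd_orderOf_pow h1⟩

theorem conj_smul_eq_iff {H : Subgroup G} {g : G} :
    MulAut.conj g • H = H ↔ g ∈ Subgroup.normalizer (H : Set G) :=
  ⟨Coprime.mem_normalizer_of_conj_smul_eq, Coprime.conj_smul_eq_of_mem_normalizer⟩

/-- The central quotient step: a subgroup with a malnormal `π`-part centralizing `X`. -/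
theorem false_of_malnormal (h : Config A B) {T X0 A1 : Subgroup G}
    (hX0 : X0 ≤ A1) (hA1T : A1 ≤ T) (hA1A : A1 ≤ A) (hne : A1 ≠ T)
    (hcent : ∀ x ∈ X0, ∀ y ∈ T, y * x = x * y)
    (hzA1 : ∀ z, IsCent A z → z ∈ A1) (hzX0 : ∀ z, IsCent A z → z ∉ X0)
    (hmal : ∀ c ∈ T, c ∉ A1 → ∀ a ∈ A1, c⁻¹ * a * c ∈ A1 → a ∈ X0) : False := by
  have hX0T : X0 ≤ T := hX0.trans hA1T
  haveI hN : (X0.subgroupOf T).Normal := ⟨fun x hx y => by
    rw [Subgroup.mem_subgroupOf] at hx ⊢
    have : ((y * x * y⁻¹ : T) : G) = x := by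
      push_cast
      rw [hcent _ hx y y.2, mul_assoc, mul_inv_cancel, mul_one]
    rw [this]; exact hx⟩
  set π := QuotientGroup.mk' (X0.subgroupOf T) with hπ
  have hker : ∀ {x : T}, π x = 1 ↔ (x : G) ∈ X0 := fun {x} => by
    rw [hπ, QuotientGroup.mk'_apply, QuotientGroup.eq_one_iff, Subgroup.mem_subgroupOf]
  set Ab := (A1.subgroupOf T).map π with hAb
  have hmem : ∀ {x : T}, π x ∈ Ab → (x : G) ∈ A1 := by
    rintro x ⟨y, hy, hyx⟩
    have h1 : π (y⁻¹ * x) = 1 := by rw [map_mul, map_inv, hyx, inv_mul_cancel]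
    have h2 := mul_mem (Subgroup.mem_subgroupOf.mp hy) (hX0 (hker.mp h1))
    simpa using h2
  obtain ⟨r0, hr0, hr0A⟩ := h.exists_prime
  obtain ⟨z, hz, hzo⟩ := h.exists_isCent hr0 hr0A
  have hFC : Cfsg.IsFrobeniusComplement Ab := by
    refine Frobenius.isFrobeniusComplement_iff.mpr ⟨?_, ?_, ?_⟩
    · intro e
      have h1 : π ⟨z, hA1T (hzA1 z hz)⟩ ∈ Ab :=
        Subgroup.mem_map_of_mem π (Subgroup.mem_subgroupOf.mpr (hzA1 z hz))
      rw [e, Subgroup.mem_bot] at h1
      exact hzX0 z hz (hker.mp h1)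
    · intro e
      exact hne (le_antisymm hA1T fun x hx => hmem (x := ⟨x, hx⟩) (e ▸ Subgroup.mem_top _))
    · intro g hg a ha hconj
      obtain ⟨c, rfl⟩ := QuotientGroup.mk'_surjective _ g
      obtain ⟨y, hy, rfl⟩ := ha
      have hc : (c : G) ∉ A1 := fun hc => hg (Subgroup.mem_map_of_mem π (Subgroup.mem_subgroupOf.mpr hc))
      have h1 : (c : G)⁻¹ * y * c ∈ A1 := by
        have := hmem (x := c⁻¹ * y * c) (by rw [map_mul, map_mul, map_inv]; exact hconj)
        simpa using this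
      exact hker.mpr (hmal c c.2 hc y (Subgroup.mem_subgroupOf.mp hy) h1)
  obtain ⟨K, hKn, -, -, -, hK0, -, hKc⟩ := Frobenius.exists_frobeniusKernel hFC
  obtain ⟨k, hk⟩ := Frobenius.exists_index_eq hFC
  haveI := hKn
  have hcopK : (Nat.card Ab).Coprime (Nat.card K) := by
    rw [hKc, hk, mul_comm (Nat.card Ab) k, Nat.coprime_mul_right_add_right]; exact Nat.coprime_one_right _
  -- the image of a central element
  set zb := π ⟨z, hA1T (hzA1 z hz)⟩ with hzb
  have hzbA : Subgroup.zpowers zb ≤ Ab :=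
    Subgroup.zpowers_le.mpr (Subgroup.mem_map_of_mem π (Subgroup.mem_subgroupOf.mpr (hzA1 z hz)))
  obtain ⟨q, hq, hqK⟩ := Nat.exists_prime_and_dvd (Subgroup.one_lt_card_iff_ne_bot K |>.mpr hK0).ne'
  haveI := Fact.mk hq
  have hqB : q ∣ Nat.card B := by
    have hd : q ∣ Nat.card G := hqK.trans ((Subgroup.card_subgroup_dvd_card K).trans
      ((Subgroup.card_quotient_dvd_card _).trans (Subgroup.card_subgroup_dvd_card T)))
    refine (h.prime_dvd_or hq hd).resolve_left fun hqA => ?_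
    obtain ⟨w, hw, hwo⟩ := h.exists_isCent hq hqA
    have h1 : π ⟨w, hA1T (hzA1 w hw)⟩ ∈ Ab :=
      Subgroup.mem_map_of_mem π (Subgroup.mem_subgroupOf.mpr (hzA1 w hw))
    have hpow : π ⟨w, hA1T (hzA1 w hw)⟩ ^ q = 1 := by
      rw [← map_pow]
      convert map_one π
      exact Subtype.ext (by push_cast; rw [← hwo, pow_orderOf_eq_one])
    have h2 : orderOf (π ⟨w, hA1T (hzA1 w hw)⟩) = q :=
      orderOf_eq_prime hpow (fun e => hzX0 w hw (hker.mp e))
    have h3 : q ∣ Nat.card Ab := by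
      rw [← h2]; exact Subgroup.orderOf_dvd_natCard Ab h1
    exact hq.ne_one (Nat.eq_one_of_dvd_coprimes hcopK h3 hqK)
  obtain ⟨P, hP⟩ := Coprime.exists_invariant_sylow (A := Subgroup.zpowers zb) (K := K)
    (fun x _ => by rw [Subgroup.normalizer_eq_top]; trivial)
    (hcopK.coprime_dvd_left (Subgroup.card_dvd_of_le hzbA)) (Or.inl (Coprime.isSolvable_zpowers zb)) q
  set Pb := (P : Subgroup K).map K.subtype with hPb
  set R := Pb.comap π with hR
  have hRn : Group.IsNilpotent R := by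
    set f : R →* Pb :=
      { toFun := fun x => ⟨π (x : T), x.2⟩
        map_one' := Subtype.ext (map_one π)
        map_mul' := fun a b => Subtype.ext (map_mul π _ _) } with hf
    haveI : Group.IsNilpotent Pb := (P.2.map K.subtype).isNilpotent
    refine Subgroup.isNilpotent_of_ker_le_center f fun x hx => Subgroup.mem_center_iff.mpr fun y => ?_
    have h1 : π (x : T) = 1 := congrArg Subtype.val hx
    exact Subtype.ext (Subtype.ext (hcent _ (hker.mp h1) _ (y : T).2))
  set R' := R.map T.subtype with hR'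
  have hR'n : Group.IsNilpotent R' := Cores.isNilpotent_map T.subtype R
  have hqR : q ∣ Nat.card R' := by
    rw [hR', Subgroup.card_map_of_injective T.subtype_injective]
    have hsurj : R.map π = Pb := Subgroup.map_comap_eq_self_of_surjective (QuotientGroup.mk'_surjective _) _
    refine dvd_trans ?_ (hsurj ▸ Subgroup.card_map_dvd (H := R) π : Nat.card Pb ∣ Nat.card R)
    rw [hPb, Subgroup.card_map_of_injective K.subtype_injective, P.card_eq_multiplicity]
    exact dvd_pow_self q (hq.factorization_pos_of_dvd Nat.card_pos.ne' hqK).ne'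
  have hzR : z ∈ Subgroup.normalizer (R' : Set G) := by
    have hzbN : zb ∈ Subgroup.normalizer (Pb : Set _) := hP (Subgroup.mem_zpowers zb)
    have hzT : z ∈ T := hA1T (hzA1 z hz)
    rw [Subgroup.mem_normalizer_iff]
    intro x
    constructor
    · rintro ⟨y, hy, rfl⟩
      refine ⟨⟨z, hzT⟩ * y * ⟨z, hzT⟩⁻¹, ?_, rfl⟩
      show π _ ∈ Pb
      rw [map_mul, map_mul, map_inv]
      exact (Subgroup.mem_normalizer_iff.mp hzbN _).mp hy
    · rintro ⟨y, hy, hyx⟩
      have hxT : x ∈ T := by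
        have h0 : z * x * z⁻¹ ∈ T := by rw [← hyx]; exact y.2
        have h1 := mul_mem (mul_mem (inv_mem hzT) h0) hzT
        simpa [mul_assoc] using h1
      refine ⟨⟨x, hxT⟩, ?_, rfl⟩
      show π _ ∈ Pb
      have he : y = ⟨z, hzT⟩ * ⟨x, hxT⟩ * ⟨z, hzT⟩⁻¹ := Subtype.ext hyx
      have h1 : π y ∈ Pb := hy
      rw [he, map_mul, map_mul, map_inv] at h1
      exact (Subgroup.mem_normalizer_iff.mp hzbN _).mpr h1
  exact pPart_ne_bot hR'n hqR
    (h.eq_bot_of_normalized hz hqB (isPGroup_pPart hR'n q) (normalizer_le_pPart R' q hzR))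

/-- The first factor is a TI-subgroup. -/
theorem isTI (h : Config A B) {g x : G} (hx : x ∈ A) (hx1 : x ≠ 1) (hg : g * x * g⁻¹ ∈ A) :
    g ∈ Subgroup.normalizer (A : Set G) := by
  by_contra hgM
  -- the intersections with other conjugates
  have hbad : ∃ c : G, c ∉ Subgroup.normalizer (A : Set G) ∧ A ⊓ MulAut.conj c • A ≠ ⊥ := by
    refine ⟨g, hgM, fun e => hx1 ?_⟩
    have h1 : g * x * g⁻¹ ∈ A ⊓ MulAut.conj g • A :=
      ⟨hg, Coprime.mem_conj_smul.mpr (by simpa [mul_assoc] using hx)⟩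
    rw [e, Subgroup.mem_bot] at h1
    simpa using h1
  haveI : Nonempty {c : G // c ∉ Subgroup.normalizer (A : Set G) ∧ A ⊓ MulAut.conj c • A ≠ ⊥} :=
    ⟨⟨_, hbad.choose_spec⟩⟩
  obtain ⟨⟨c0, hc0, hX⟩, hmax⟩ := Finite.exists_max
    (fun c : {c : G // c ∉ Subgroup.normalizer (A : Set G) ∧ A ⊓ MulAut.conj c • A ≠ ⊥} =>
      Nat.card (A ⊓ MulAut.conj c.1 • A : Subgroup G))
  set X := A ⊓ MulAut.conj c0 • A with hXdef
  set T := Subgroup.centralizer (X : Set G) with hT
  obtain ⟨⟨x1, hx1X⟩, hx11⟩ := Subgroup.ne_bot_iff_exists_ne_one.mp hX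
  have hx11' : x1 ≠ 1 := fun e => hx11 (Subtype.ext e)
  have hcentT : ∀ z, IsCent A z → z ∈ T := fun z hz =>
    Subgroup.mem_centralizer_iff.mpr fun w hw => hz.2.2 w (show w ∈ X from hw).1
  have hcentT' : ∀ z, IsCent A z → c0 * z * c0⁻¹ ∈ T := fun z hz =>
    Subgroup.mem_centralizer_iff.mpr fun w hw => by
      have h1 := hz.2.2 _ (Coprime.mem_conj_smul.mp (show w ∈ X from hw).2)
      calc w * (c0 * z * c0⁻¹) = c0 * ((c0⁻¹ * w * c0) * z) * c0⁻¹ := by group
        _ = c0 * (z * (c0⁻¹ * w * c0)) * c0⁻¹ := by rw [h1]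
        _ = c0 * z * c0⁻¹ * w := by group
  obtain ⟨r, hr, hrA⟩ := h.exists_prime
  obtain ⟨z, hz, hzo⟩ := h.exists_isCent hr hrA
  -- elements of `T` normalizing `A` lie in `A`, or `T` normalizes `A`
  have hTM : ¬ T ≤ Subgroup.normalizer (A : Set G) := by
    intro hle
    refine hc0 (h.mem_normalizer_of_conj_mem hz (h.mem_of_coprime ?_ (hle (hcentT' z hz))))
    rw [show c0 * z * c0⁻¹ = MulAut.conj c0 z from rfl, MulEquiv.orderOf_eq, hzo]
    exact hr.coprime_iff_not_dvd.mpr (h.not_dvd_B hr hrA)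
  have hTA : ∀ y ∈ T, y ∈ Subgroup.normalizer (A : Set G) → y ∈ A := by
    intro y hy hyM
    rcases h.mem_or_mixed hyM with hyA | ⟨q, hq, hqB, n, hn⟩
    · exact hyA
    · haveI := Fact.mk hq
      refine absurd ?_ hTM
      have hcx : x1 * y ^ n = y ^ n * x1 :=
        ((show Commute x1 y from Subgroup.mem_centralizer_iff.mp hy x1 hx1X).pow_right n).eq
      exact (Subgroup.centralizer_le (Set.singleton_subset_iff.mpr hx1X)).trans
        (h.centralizer_le_of_mixed hx1X.1 hx11' (pow_mem hyM n) hn hqB hcx)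
  have hzX : ∀ w, IsCent A w → w ∉ X := by
    intro w hw hwX
    refine hc0 (h.mem_normalizer_of_conj_mem hz ?_)
    rw [← h.centralizer_eq hw]
    exact Subgroup.mem_centralizer_singleton_iff.mpr
      ((Subgroup.mem_centralizer_iff.mp (hcentT' z hz) w hwX).symm)
  refine h.false_of_malnormal (T := T) (X0 := X ⊓ T) (A1 := A ⊓ T)
    (inf_le_inf_right T inf_le_left) inf_le_right inf_le_left
    (fun e => hTM ((e ▸ inf_le_left : T ≤ A).trans Subgroup.le_normalizer))
    (fun w hw y hy => (Subgroup.mem_centralizer_iff.mp hy w hw.1).symm)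
    (fun w hw => ⟨hw.1, hcentT w hw⟩) (fun w hw hmem => hzX w hw hmem.1) ?_
  intro c hc hcA a ha hconj
  have hcM : c⁻¹ ∉ Subgroup.normalizer (A : Set G) := fun hM =>
    hcA ⟨by simpa using inv_mem (hTA c⁻¹ (inv_mem hc) hM), hc⟩
  have hXle : X ≤ A ⊓ MulAut.conj c⁻¹ • A := by
    refine le_inf inf_le_left fun w hw => Coprime.mem_conj_smul.mpr ?_
    have h1 : c * w = w * c := (Subgroup.mem_centralizer_iff.mp hc w hw).symm
    rw [inv_inv, h1, mul_inv_cancel_right]
    exact (show w ∈ X from hw).1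
  have heq : X = A ⊓ MulAut.conj c⁻¹ • A :=
    Coprime.eq_of_le_of_card_le hXle (hmax ⟨c⁻¹, hcM, fun e => hX (le_bot_iff.mp (e ▸ hXle))⟩)
  have hmem : c⁻¹ * a * c ∈ X := by
    rw [heq]
    refine ⟨hconj.1, Coprime.mem_conj_smul.mpr ?_⟩
    simpa [mul_assoc] using ha.1
  have h1 : c⁻¹ * a * c * c = c * (c⁻¹ * a * c) := Subgroup.mem_centralizer_iff.mp hc _ hmem
  have ha' : a = c⁻¹ * a * c := by
    calc a = c * (c⁻¹ * a * c) * c⁻¹ := by group
      _ = c⁻¹ * a * c * c * c⁻¹ := by rw [h1]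
      _ = _ := by group
  exact ⟨ha' ▸ hmem, ha.2⟩

/-- The elements conjugate into the factor, indexed by cosets of its normalizer. -/
theorem injective_piece (h : Config A B) :
    Function.Injective (fun p : (G ⧸ Subgroup.normalizer (A : Set G)) × {x : A // x ≠ 1} =>
      p.1.out * (p.2.1 : G) * p.1.out⁻¹) := by
  rintro ⟨c, ⟨⟨x, hx⟩, hx1⟩⟩ ⟨c', ⟨⟨x', hx'⟩, hx1'⟩⟩ he
  simp only at he
  have hconj : (c'.out⁻¹ * c.out) * x * (c'.out⁻¹ * c.out)⁻¹ = x' := by
    calc _ = c'.out⁻¹ * (c.out * x * c.out⁻¹) * c'.out := by group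
      _ = c'.out⁻¹ * (c'.out * x' * c'.out⁻¹) * c'.out := by rw [he]
      _ = x' := by group
  have hM := h.isTI hx (fun e => hx1 (Subtype.ext e)) (hconj.symm ▸ hx')
  have hcc : c' = c := by
    rw [← QuotientGroup.out_eq' c', ← QuotientGroup.out_eq' c]
    exact QuotientGroup.eq.mpr hM
  subst hcc
  have : x = x' := by simpa using hconj
  subst this
  rfl

theorem card_piece (X : Subgroup G) : Nat.card {x : X // x ≠ 1} + 1 = Nat.card X := by
  classical
  let _ : Fintype X := Fintype.ofFinite X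
  rw [Nat.card_eq_fintype_card, Nat.card_eq_fintype_card, Fintype.card_subtype_compl,
    Fintype.card_subtype_eq]
  have : 0 < Fintype.card X := Fintype.card_pos
  omega

omit [Finite G] in
theorem pow_eq_of_commute {e d : G} {a b n : ℕ} (hc : Commute e d) (he : e ^ a = 1) (hd : d ^ b = 1)
    (hn : n ≡ 1 [MOD a]) (hbn : b ∣ n) : (e * d) ^ n = e := by
  rw [hc.mul_pow]
  obtain ⟨k, rfl⟩ := hbn
  rw [pow_mul d, hd, one_pow, mul_one, pow_eq_pow_mod _ he, hn, ← pow_eq_pow_mod _ he, pow_one]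

/-- A minimal counterexample does not exist. -/
theorem false (h : Config A B) : False := by
  set M := Subgroup.normalizer (A : Set G) with hM
  set L := Subgroup.normalizer (B : Set G) with hL
  set W := M ⊓ L with hW
  set E := A ⊓ L with hE
  set D := B ⊓ M with hD
  have hAM : A ≤ M := Subgroup.le_normalizer
  have hBL : B ≤ L := Subgroup.le_normalizer
  set a := Nat.card A with ha
  set b := Nat.card B with hb
  have hcop : a.Coprime b := h.cop
  have hMc : Nat.card M = a * Nat.card D := by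
    have := card_of_factor h.cop (factor_of_le h.fac hAM)
    rwa [inf_of_le_left hAM] at this
  have hLc : Nat.card L = b * Nat.card E := by
    have := card_of_factor h.cop.symm (factor_of_le (fac_symm h.fac) hBL)
    rwa [inf_of_le_left hBL] at this
  have hWf : ∀ k ∈ W, ∃ x ∈ A ⊓ W, ∃ y ∈ B ⊓ W, k = x * y := by
    intro k hk
    obtain ⟨x, hx, y, hy, rfl⟩ := h.fac k
    have hxW : x ∈ W := ⟨hAM hx, by
      have h0 : x * y * y⁻¹ ∈ L := mul_mem hk.2 (inv_mem (hBL hy))
      simpa using h0⟩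
    exact ⟨x, ⟨hx, hxW⟩, y, ⟨hy, by simpa using mul_mem (inv_mem hxW) hk⟩, rfl⟩
  have hEW : A ⊓ W = E := by rw [hE, hW, ← inf_assoc, inf_of_le_left hAM]
  have hDW : B ⊓ W = D := by rw [hD, hW, inf_comm M L, ← inf_assoc, inf_of_le_left hBL]
  have hWc : Nat.card W = Nat.card E * Nat.card D := by
    rw [card_of_factor h.cop hWf, hEW, hDW]
  have hcomm : ∀ e ∈ E, ∀ d ∈ D, Commute e d := by
    intro e he d hd
    have h1 : e * d * e⁻¹ * d⁻¹ ∈ A := by
      have := (Subgroup.mem_normalizer_iff.mp hd.2 e⁻¹).mp (inv_mem he.1)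
      simpa [mul_assoc] using mul_mem he.1 this
    have h2 : e * d * e⁻¹ * d⁻¹ ∈ B := mul_mem ((Subgroup.mem_normalizer_iff.mp he.2 d).mp hd.1) (inv_mem hd.1)
    have h3 := Coprime.eq_one_of_mem_of_mem h.cop h1 h2
    calc e * d = (e * d * e⁻¹ * d⁻¹) * (d * e) := by group
      _ = d * e := by rw [h3, one_mul]
  obtain ⟨u, hu, hu'⟩ : ∃ u, u ≡ 1 [MOD a] ∧ u ≡ 0 [MOD b] :=
    ⟨_, (Nat.chineseRemainder hcop 1 0).2⟩
  obtain ⟨v, hv, hv'⟩ : ∃ v, v ≡ 1 [MOD b] ∧ v ≡ 0 [MOD a] :=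
    ⟨_, (Nat.chineseRemainder hcop.symm 1 0).2⟩
  rw [Nat.modEq_zero_iff_dvd] at hu' hv'
  have hpa : ∀ x ∈ A, x ^ a = 1 := fun x hx => by
    exact congrArg Subtype.val (pow_card_eq_one' (G := A) (x := ⟨x, hx⟩))
  have hpb : ∀ x ∈ B, x ^ b = 1 := fun x hx => by
    exact congrArg Subtype.val (pow_card_eq_one' (G := B) (x := ⟨x, hx⟩))
  have he_eq : ∀ e ∈ E, ∀ d ∈ D, (e * d) ^ u = e := fun e he d hd =>
    pow_eq_of_commute (hcomm e he d hd) (hpa e he.1) (hpb d hd.1) hu hu'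
  have hd_eq : ∀ e ∈ E, ∀ d ∈ D, (e * d) ^ v = d := fun e he d hd => by
    rw [(hcomm e he d hd).eq]
    exact pow_eq_of_commute (hcomm e he d hd).symm (hpb d hd.1) (hpa e he.1) hv hv'
  -- the mixed elements
  let fW : (G ⧸ W) × {x : E // x ≠ 1} × {x : D // x ≠ 1} → G := fun p =>
    p.1.out * ((p.2.1.1 : G) * (p.2.2.1 : G)) * p.1.out⁻¹
  have hfW : Function.Injective fW := by
    rintro ⟨c, ⟨⟨e, he⟩, he1⟩, ⟨⟨d, hd⟩, hd1⟩⟩ ⟨c', ⟨⟨e', he'⟩, he1'⟩, ⟨⟨d', hd'⟩, hd1'⟩⟩ heq
    simp only [fW] at heq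
    set g := c'.out⁻¹ * c.out with hg
    have hw : g * (e * d) * g⁻¹ = e' * d' := by
      calc _ = c'.out⁻¹ * (c.out * (e * d) * c.out⁻¹) * c'.out := by rw [hg]; group
        _ = c'.out⁻¹ * (c'.out * (e' * d') * c'.out⁻¹) * c'.out := by rw [heq]
        _ = e' * d' := by group
    have h1 : g * e * g⁻¹ = e' := by
      rw [← he_eq e he d hd, ← conj_pow, hw, he_eq e' he' d' hd']
    have h2 : g * d * g⁻¹ = d' := by
      rw [← hd_eq e he d hd, ← conj_pow, hw, hd_eq e' he' d' hd']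
    have hgW : g ∈ W := ⟨h.isTI he.1 (fun e0 => he1 (Subtype.ext e0)) (h1.symm ▸ he'.1),
      h.symm.isTI hd.1 (fun e0 => hd1 (Subtype.ext e0)) (h2.symm ▸ hd'.1)⟩
    have hcc : c' = c := by
      rw [← QuotientGroup.out_eq' c', ← QuotientGroup.out_eq' c]
      exact QuotientGroup.eq.mpr hgW
    subst hcc
    have he' : e = e' := by simpa [hg] using h1
    have hd' : d = d' := by simpa [hg] using h2
    subst he' hd'
    rfl
  let fA : (G ⧸ M) × {x : A // x ≠ 1} → G := fun p => p.1.out * (p.2.1 : G) * p.1.out⁻¹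
  let fB : (G ⧸ L) × {x : B // x ≠ 1} → G := fun p => p.1.out * (p.2.1 : G) * p.1.out⁻¹
  have hfA : Function.Injective fA := h.injective_piece
  have hfB : Function.Injective fB := h.symm.injective_piece
  have hA1 : ∀ p, fA p ^ a = 1 := fun p => by simp only [fA]; rw [conj_pow, hpa _ p.2.1.2]; group
  have hB1 : ∀ p, fB p ^ b = 1 := fun p => by simp only [fB]; rw [conj_pow, hpb _ p.2.1.2]; group
  have hAne : ∀ p, fA p ≠ 1 := fun p e => p.2.2 (Subtype.ext (by simpa [fA] using e))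
  have hBne : ∀ p, fB p ≠ 1 := fun p e => p.2.2 (Subtype.ext (by simpa [fB] using e))
  have hWa : ∀ p, fW p ^ a ≠ 1 := fun p e => by
    simp only [fW] at e
    rw [conj_pow, mul_inv_eq_one, mul_eq_left] at e
    obtain ⟨k, hk⟩ := hv'
    have := hd_eq _ p.2.1.1.2 _ p.2.2.1.2
    rw [hk, pow_mul, e, one_pow] at this
    exact p.2.2.2 (Subtype.ext this.symm)
  have hWb : ∀ p, fW p ^ b ≠ 1 := fun p e => by
    simp only [fW] at e
    rw [conj_pow, mul_inv_eq_one, mul_eq_left] at e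
    obtain ⟨k, hk⟩ := hu'
    have := he_eq _ p.2.1.1.2 _ p.2.2.1.2
    rw [hk, pow_mul, e, one_pow] at this
    exact p.2.1.2 (Subtype.ext this.symm)
  have hone : ∀ x : G, x ^ a = 1 → x ^ b = 1 → x = 1 := fun x h1 h2 =>
    orderOf_eq_one_iff.mp (Nat.eq_one_of_dvd_coprimes hcop (orderOf_dvd_of_pow_eq_one h1)
      (orderOf_dvd_of_pow_eq_one h2))
  let F : Option (((G ⧸ M) × {x : A // x ≠ 1}) ⊕ (((G ⧸ L) × {x : B // x ≠ 1}) ⊕
      ((G ⧸ W) × {x : E // x ≠ 1} × {x : D // x ≠ 1}))) → G := fun o =>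
    o.elim 1 (Sum.elim fA (Sum.elim fB fW))
  have hF : Function.Injective F := by
    rintro (_ | p | p | p) (_ | p' | p' | p') he <;>
      simp only [F, Option.elim_none, Option.elim_some, Sum.elim_inl, Sum.elim_inr] at he
    · rfl
    · exact absurd he.symm (hAne _)
    · exact absurd he.symm (hBne _)
    · exact absurd (by rw [← he, one_pow]) (hWa p')
    · exact absurd he (hAne _)
    · rw [hfA he]
    · exact absurd (hone _ (hA1 p) (he ▸ hB1 p')) (hAne _)
    · exact absurd (he ▸ hA1 p) (hWa p')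
    · exact absurd he (hBne _)
    · exact absurd (hone _ (he ▸ hA1 p') (hB1 p)) (hBne _)
    · rw [hfB he]
    · exact absurd (he ▸ hB1 p) (hWb p')
    · exact absurd (by rw [he, one_pow]) (hWa p)
    · exact absurd (he.symm ▸ hA1 p') (hWa p)
    · exact absurd (he.symm ▸ hB1 p') (hWb p)
    · rw [hfW he]
  have hle := Nat.card_le_card_of_injective F hF
  rw [Finite.card_option, Nat.card_sum, Nat.card_sum, Nat.card_prod, Nat.card_prod, Nat.card_prod,
    Nat.card_prod, ← Subgroup.index, ← Subgroup.index, ← Subgroup.index, h.card_eq] at hle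
  have hi := M.index_mul_card
  have hj := L.index_mul_card
  have hk := W.index_mul_card
  rw [hMc, h.card_eq] at hi
  rw [hLc, h.card_eq] at hj
  rw [hWc, h.card_eq] at hk
  have hA' := card_piece A
  have hB' := card_piece B
  have hE' := card_piece E
  have hD' := card_piece D
  have hEA : Nat.card E < a := by
    refine lt_of_le_of_ne (Nat.le_of_dvd Nat.card_pos (Subgroup.card_dvd_of_le inf_le_left)) fun e => ?_
    have hAL : A ≤ L := (Coprime.eq_of_le_of_card_le (inf_le_left : E ≤ A) e.ge).ge.trans inf_le_right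
    refine h.normalizer_ne_top h.B_ne_bot h.B_ne_top (eq_top_iff.mpr fun g _ => ?_)
    obtain ⟨x, hx, y, hy, rfl⟩ := h.fac g
    exact mul_mem (hAL hx) (hBL hy)
  have hDB : Nat.card D < b := by
    refine lt_of_le_of_ne (Nat.le_of_dvd Nat.card_pos (Subgroup.card_dvd_of_le inf_le_left)) fun e => ?_
    have hBM : B ≤ M := (Coprime.eq_of_le_of_card_le (inf_le_left : D ≤ B) e.ge).ge.trans inf_le_right
    refine h.normalizer_ne_top h.A_ne_bot h.A_ne_top (eq_top_iff.mpr fun g _ => ?_)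
    obtain ⟨x, hx, y, hy, rfl⟩ := h.fac g
    exact mul_mem (hAM hx) (hBM hy)
  have hapos : 0 < a := Nat.card_pos
  have hbpos : 0 < b := Nat.card_pos
  rw [← ha] at hA' hle hi hj hk
  rw [← hb] at hB' hle hi hj hk
  generalize Nat.card {x : A // x ≠ 1} = a1 at *
  generalize Nat.card {x : B // x ≠ 1} = b1 at *
  generalize Nat.card {x : E // x ≠ 1} = e1 at *
  generalize Nat.card {x : D // x ≠ 1} = d1 at *
  generalize Nat.card E = e at *
  generalize Nat.card D = d at *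
  generalize M.index = i at *
  generalize L.index = j at *
  generalize W.index = k at *
  have hi' : i * d = b := Nat.eq_of_mul_eq_mul_left hapos (by linarith)
  have hj' : j * e = a := Nat.eq_of_mul_eq_mul_left hbpos (by linarith)
  have hea : e1 < a1 := by omega
  have hdb : d1 < b1 := by omega
  rw [← hA', ← hB', ← hE', ← hD'] at *
  have key : (e1 + 1) * (d1 + 1) * (i * a1 + (j * b1 + k * (e1 * d1)) + 1) ≤
      (e1 + 1) * (d1 + 1) * ((a1 + 1) * (b1 + 1)) := Nat.mul_le_mul_left _ (by linarith)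
  have key' : (e1 + 1) * (b1 + 1) * a1 + (d1 + 1) * (a1 + 1) * b1 + (a1 + 1) * (b1 + 1) * (e1 * d1) +
      (e1 + 1) * (d1 + 1) ≤ (e1 + 1) * (d1 + 1) * ((a1 + 1) * (b1 + 1)) := by
    refine le_trans (le_of_eq ?_) key
    rw [← hk]
    nth_rewrite 1 [← hi']
    nth_rewrite 1 [← hj']
    ring
  nlinarith [key', mul_pos (show (0:ℤ) < a1 - e1 by omega) (show (0:ℤ) < b1 - d1 by omega), hea, hdb]

end Config

end Cfsg.Agent.Lib.Solvable.KegelWielandt
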